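import Groth.Agent.Lib.AffPart25.Descent

/-!
# Chevalley's structure theorem over a perfect field
-/

set_option autoImplicit false
set_option linter.style.haveILetI false
set_option backward.isDefEq.respectTransparency false
set_option backward.isDefEq.respectTransparency.types false
set_option maxSynthPendingDepth 3

universe u

open CategoryTheory Limits MonoidalCategory CartesianMonoidalCategory MonObj GrpObj AlgebraicGeometry Opposite
open Groth.Agent Groth.Agent.DiagGL Groth.Agent.MTRigid29

noncomputable section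

namespace Groth.Agent.AffPart25

variable {k : Type u} [Field k]

/-- The quotient of a smooth group over a field by a closed normal subgroup. -/
theorem exists_quotient_field' {G N : Over (Spec (CommRingCat.of k))} [GrpObj G] [GrpObj N] [Smooth G.hom]
    [QuasiCompact G.hom] (n : N ⟶ G) [IsMonHom n] [IsClosedImmersion n.left] (hN : AlgGrp.IsNormalHom n) :
    ∃ (Q : Over (Spec (CommRingCat.of k))) (_ : GrpObj Q) (q : G ⟶ Q), IsMonHom q ∧
      Flat q.left ∧ Surjective q.left ∧ QuasiCompact q.left ∧ LocallyOfFinitePresentation q.left ∧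
      AlgGrp.IsKernel n q ∧ LocallyOfFiniteType Q.hom ∧ QuasiCompact Q.hom := by
  haveI : IsSeparated G.hom := AbRigid.isSeparated_of_grpObj G
  haveI : Mono n := Over.mono_of_mono_left n
  haveI : LocallyOfFiniteType N.hom := by rw [← Over.w n]; infer_instance
  obtain ⟨Q, p, hp, hpb, hQ, -⟩ := QuotField20.exists_quotient_field n
  obtain ⟨_, hpm, hker⟩ := QuotField20.exists_grpObj_quotient n hp hpb hN
  haveI := hpm
  haveI := hp.surj
  haveI := hp.flat
  haveI := hQ
  haveI : CompactSpace G.left := (quasiCompact_iff_compactSpace G.hom).1 inferInstance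
  haveI : CompactSpace Q.left := ⟨by
    rw [← (p.left.surjective).range_eq]
    exact isCompact_range p.left.continuous⟩
  haveI : QuasiCompact Q.hom := (quasiCompact_iff_compactSpace Q.hom).2 inferInstance
  exact ⟨Q, inferInstance, p, hpm, hp.flat, hp.surj, AlgGrpBasic19.quasiCompact_left p, hp.lfp, hker, inferInstance,
    inferInstance⟩

/-- Normality descends along extensions of the base field. -/
theorem isNormalHom_of_bc {G H : Over (Spec (CommRingCat.of k))} [GrpObj G] [GrpObj H] [Smooth G.hom] [Smooth H.hom]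
    (j : H ⟶ G) [IsClosedImmersion j.left] {K : Type u} [Field K]
    (π : Spec (CommRingCat.of K) ⟶ Spec (CommRingCat.of k))
    {H' : Over (Spec (CommRingCat.of K))} [GrpObj H'] (i : H' ⟶ Red.bc π G) (hi : AlgGrp.IsNormalHom i)
    (φ : Red.bc π H ≅ H') (hφ : φ.hom ≫ i = (Over.pullback π).map j) : AlgGrp.IsNormalHom j := by
  let F := Over.pullback π
  let c : G ⊗ H ⟶ G := fst G H * (snd G H ≫ j) * (fst G H)⁻¹
  obtain ⟨n', hn'⟩ := hi (F.obj (G ⊗ H)) (F.map (fst G H)) (F.map (snd G H) ≫ φ.hom)
  have hc : F.map c = (n' ≫ φ.inv) ≫ F.map j := by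
    have h2 : n' ≫ i = (n' ≫ φ.inv) ≫ F.map j := by rw [← hφ, Category.assoc, φ.inv_hom_id_assoc]
    rw [← h2, ← hn', Category.assoc, hφ]
    simp only [c, Functor.map_mul, Functor.map_inv', Functor.map_comp]
    rfl
  haveI : IsReduced (G ⊗ H).left := by
    haveI : Smooth (G ⊗ H).hom := by
      show Smooth (pullback.fst G.hom H.hom ≫ G.hom)
      infer_instance
    exact OrbitTop19.isReduced_of_smooth (G ⊗ H).hom
  haveI : Surjective π := ⟨fun z => ⟨IsLocalRing.closedPoint _, Subsingleton.elim _ _⟩⟩
  haveI : Surjective (pullback.fst (G ⊗ H).hom π) := MorphismProperty.pullback_fst _ _ ‹_›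
  have hw : (F.map c).left ≫ pullback.fst G.hom π = pullback.fst (G ⊗ H).hom π ≫ c.left := pullback.lift_fst _ _ _
  have hsub : Set.range c.left ⊆ Set.range j.left := by
    rintro _ ⟨z, rfl⟩
    obtain ⟨w, rfl⟩ := (pullback.fst (G ⊗ H).hom π).surjective z
    refine ⟨((n' ≫ φ.inv).left ≫ pullback.fst H.hom π) w, ?_⟩
    rw [← Scheme.Hom.comp_apply, ← Scheme.Hom.comp_apply, Category.assoc,
      show pullback.fst H.hom π ≫ j.left = (F.map j).left ≫ pullback.fst G.hom π from (pullback.lift_fst _ _ _).symm,
      ← Category.assoc, ← Over.comp_left, ← hc, hw]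
    rfl
  obtain ⟨l, hl⟩ := RedSepLib.exists_lift_of_range_subset c.left j.left hsub
  let l' : G ⊗ H ⟶ H := Over.homMk l (by rw [← Over.w j, reassoc_of% hl, Over.w c])
  have hl' : l' ≫ j = c := Over.OverMorphism.ext hl
  intro T t h
  refine ⟨lift t h ≫ l', ?_⟩
  rw [Category.assoc, hl']
  simp only [c, MonObj.comp_mul, GrpObj.comp_inv, lift_fst, lift_snd_assoc]

/-- **Chevalley's theorem** over a perfect field. -/
theorem exists_chevalley_perfect [PerfectField k] (G : Over (Spec (CommRingCat.of k))) [GrpObj G] [Smooth G.hom]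
    [QuasiCompact G.hom] [ConnectedSpace G.left] :
    ∃ (L : Over (Spec (CommRingCat.of k))) (_ : GrpObj L) (l : L ⟶ G) (Q : Over (Spec (CommRingCat.of k)))
      (_ : GrpObj Q) (q : G ⟶ Q), IsMonHom l ∧ IsClosedImmersion l.left ∧ IsAffine L.left ∧ Smooth L.hom ∧
      ConnectedSpace ↥L.left ∧ AlgGrp.IsNormalHom l ∧ IsMonHom q ∧ Surjective q.left ∧ Flat q.left ∧
      AlgGrp.IsKernel l q ∧ IsProper Q.hom ∧ Smooth Q.hom ∧ ConnectedSpace ↥Q.left := by
  let π : Spec (CommRingCat.of (AlgebraicClosure k)) ⟶ Spec (CommRingCat.of k) :=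
    Spec.map (CommRingCat.ofHom (algebraMap k (AlgebraicClosure k)))
  haveI : IsSeparated G.hom := AbRigid.isSeparated_of_grpObj G
  haveI : Smooth (Red.bc π G).hom := inferInstanceAs (Smooth (pullback.snd G.hom π))
  haveI : QuasiCompact (Red.bc π G).hom := inferInstanceAs (QuasiCompact (pullback.snd G.hom π))
  haveI : ConnectedSpace (Red.bc π G).left := BorelFix21.connectedSpace_bc π G
  obtain ⟨N, _, i, ⟨him, hic, hNs, hNc, hNa, hNn⟩, hmax⟩ := exists_largest (Red.bc π G)
  haveI := him; haveI := hic; haveI := hNs; haveI := hNc; haveI := hNa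
  obtain ⟨A, _, q, hqm, hqf, hqs, hqq, hk, hAp, hAs, hAc⟩ := exists_chevalley (Red.bc π G) N i hNn hmax
  haveI := hqm; haveI := hqf; haveI := hqs; haveI := hqq; haveI := hAp; haveI := hAs
  haveI : Surjective π := ⟨fun z => ⟨IsLocalRing.closedPoint _, Subsingleton.elim _ _⟩⟩
  haveI : Flat π := inferInstance
  haveI : IsAffineHom N.hom := inferInstance
  have hcov : ∀ V : (Spec (CommRingCat.of k)).Opens, IsAffineOpen V →
      ∃ W : (Spec (CommRingCat.of (AlgebraicClosure k))).Opens,
        IsCompact (W : Set (Spec (CommRingCat.of (AlgebraicClosure k)))) ∧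
          π.base '' (W : Set (Spec (CommRingCat.of (AlgebraicClosure k)))) = (V : Set _) := fun V hV =>
    ⟨π ⁻¹ᵁ V, π.isCompact_preimage hV.isCompact, Set.image_preimage_eq _ π.surjective⟩
  obtain ⟨L, _, l, hl, -, φ, hφ⟩ := exists_descent i (fun p => affine_indep i q hk p) hcov
  haveI := hl
  haveI hlc' : IsClosedImmersion ((Over.pullback π).map l).left := by
    haveI : IsIso φ.hom.left := (inferInstance : IsIso ((Over.forget _).map φ.hom))
    rw [← hφ, Over.comp_left]
    infer_instance
  haveI hlc : IsClosedImmersion l.left := by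
    haveI := @FpqcDesc.descendsAlong_isClosedImmersion.{u}
    exact MorphismProperty.of_isPullback_of_descendsAlong (P := @IsClosedImmersion)
      (Q := @Surjective ⊓ @Flat ⊓ @QuasiCompact) (MTRigid29.isPullback_map_left π l).flip
      ⟨⟨inferInstance, inferInstance⟩, inferInstance⟩ hlc'
  haveI : IsIso φ.hom.left := (inferInstance : IsIso ((Over.forget _).map φ.hom))
  haveI : Smooth L.hom := MorphismProperty.of_pullback_snd_of_descendsAlong (P := @Smooth)
    (Q := @Surjective ⊓ @Flat ⊓ @QuasiCompact) ⟨⟨inferInstance, inferInstance⟩, inferInstance⟩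
    (f := L.hom) (g := π) (by
      show Smooth (Red.bc π L).hom
      rw [← Over.w φ.hom]; infer_instance)
  haveI : IsAffine L.left := by
    haveI := FpqcDesc.descendsAlong_isAffineHom.{u}
    haveI : IsAffineHom L.hom := MorphismProperty.of_pullback_snd_of_descendsAlong (P := @IsAffineHom)
      (Q := @Surjective ⊓ @Flat ⊓ @QuasiCompact) ⟨⟨inferInstance, inferInstance⟩, inferInstance⟩
      (f := L.hom) (g := π) (by
        show IsAffineHom (Red.bc π L).hom
        rw [← Over.w φ.hom]; infer_instance)
    exact isAffine_of_isAffineHom L.hom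
  haveI : ConnectedSpace L.left := TorPts21.connectedSpace_of_bc π
    (φ.hom.left.homeomorph.symm.surjective.connectedSpace φ.hom.left.homeomorph.symm.continuous)
  have hln : AlgGrp.IsNormalHom l := isNormalHom_of_bc l π i hNn φ hφ
  obtain ⟨Q, _, c, hcm, hcf, hcs, hcq, hcp, hkc, hQl, hQq⟩ := exists_quotient_field' l hln
  haveI := hcm; haveI := hcf; haveI := hcs; haveI := hcq; haveI := hQl; haveI := hQq
  haveI : Smooth Q.hom := AlgSpDescent.smooth_of_fppf_comp c.left Q.hom hcf hcp hcs (by rw [Over.w]; infer_instance)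
  haveI : ConnectedSpace Q.left := c.left.surjective.connectedSpace c.left.continuous
  -- properness after extension
  haveI : Smooth (Red.bc π Q).hom := inferInstanceAs (Smooth (pullback.snd Q.hom π))
  haveI : QuasiCompact (Red.bc π Q).hom := inferInstanceAs (QuasiCompact (pullback.snd Q.hom π))
  haveI : Surjective ((Over.pullback π).map c).left :=
    MorphismProperty.of_isPullback (P := @Surjective) (BorelFix21.isPullback_bc_map π c) ‹_›
  obtain ⟨d, hd⟩ := AlgGrpBasic19.exists_desc q ((Over.pullback π).map c) fun T a b e => by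
    have hkT : (a⁻¹ * b) ≫ q = toUnit T ≫ η[A] := by
      rw [MonObj.mul_comp, GrpObj.inv_comp, e, inv_mul_cancel, Hom.one_def]
    have h1 : i ≫ (Over.pullback π).map c = 1 := by
      rw [← cancel_epi φ.hom, MonObj.comp_one, ← Category.assoc, hφ, (isKernel_bc l c hkc π).w, Hom.one_def]
    have h2 : (a⁻¹ * b) ≫ (Over.pullback π).map c = 1 := by
      rw [← hk.lift_fst _ _ hkT, Category.assoc, h1, MonObj.comp_one]
    rw [MonObj.mul_comp, GrpObj.inv_comp] at h2
    exact inv_mul_eq_one.mp h2
  haveI : Surjective d.left := by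
    haveI : Surjective (q.left ≫ d.left) := by rw [← Over.comp_left, hd]; infer_instance
    exact Surjective.of_comp q.left d.left
  haveI : IsProper Q.hom := by
    haveI := @FpqcDesc.descendsAlong_isProper.{u}
    refine MorphismProperty.of_pullback_snd_of_descendsAlong (P := @IsProper)
      (Q := @Surjective ⊓ @Flat ⊓ @QuasiCompact) ⟨⟨inferInstance, inferInstance⟩, inferInstance⟩
      (f := Q.hom) (g := π) ?_
    show IsProper (Red.bc π Q).hom
    haveI : UniversallyClosed (d.left ≫ (Red.bc π Q).hom) := by rw [Over.w]; infer_instance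
    haveI : UniversallyClosed (Red.bc π Q).hom := UniversallyClosed.of_comp_surjective d.left _
    haveI : IsSeparated (Red.bc π Q).hom := AbRigid.isSeparated_of_grpObj _
    exact { }
  exact ⟨L, inferInstance, l, Q, inferInstance, c, hl, hlc, inferInstance, inferInstance, inferInstance, hln, hcm, hcs,
    hcf, hkc, inferInstance, inferInstance, inferInstance⟩

/-- A connected smooth affine subgroup factors through the kernel of any homomorphism to a proper group. -/
theorem exists_factor_kernel {G L Q L' : Over (Spec (CommRingCat.of k))} [GrpObj G] [GrpObj Q] [IsProper Q.hom]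
    (l : L ⟶ G) (q : G ⟶ Q) [IsMonHom q] (hk : AlgGrp.IsKernel l q) [GrpObj L'] [Smooth L'.hom] [ConnectedSpace L'.left]
    [IsAffine L'.left] (l' : L' ⟶ G) [IsMonHom l'] : ∃ f : L' ⟶ L, f ≫ l = l' :=
  ⟨hk.lift l' (toUnit L') ((eq_one_of_affine_field (l' ≫ q)).trans Hom.one_def), hk.lift_fst _ _ _⟩

end Groth.Agent.AffPart25
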