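import Groth.Agent.Lib.AffPart25.Theorem
import Groth.Agent.Lib.RatMapAV.Hom

/-!
# Affine subgroups and maps to abelian varieties
-/

set_option autoImplicit false
set_option linter.style.haveILetI false
set_option backward.isDefEq.respectTransparency false
set_option backward.isDefEq.respectTransparency.types false

universe u

open CategoryTheory CategoryTheory.Limits MonoidalCategory CartesianMonoidalCategory MonObj AlgebraicGeometry

noncomputable section

namespace Groth.Agent.AffPart25

variable {k : Type u} [Field k] [IsAlgClosed k]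

/-- A connected affine group maps trivially to a proper one. -/
theorem eq_one_of_affine {H A : Over (Spec (CommRingCat.of k))} [GrpObj H] [GrpObj A] [Smooth H.hom]
    [ConnectedSpace H.left] [IsAffine H.left] [IsProper A.hom] (f : H ⟶ A) [IsMonHom f] : f = 1 := by
  obtain ⟨K, _, j, g, hj, hjc, hg, -, hgs, hgj, hKs, hKc, hKa⟩ := exists_affine_image f
  haveI := hj; haveI := hjc; haveI := hg; haveI := hKs; haveI := hKc; haveI := hKa
  haveI : IsProper K.hom := by rw [← Over.w j]; infer_instance
  haveI : IsFinite K.hom := (IsFinite.iff_isProper_and_isAffineHom).2 ⟨inferInstance, inferInstance⟩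
  haveI := subsingleton_of_isFinite K
  haveI : IsSeparated K.hom := inferInstance
  haveI : IsClosedImmersion η[K].left := isClosedImmersion_of_comp_eq_id K.hom _ (Over.w η[K])
  haveI : Surjective η[K].left := ⟨fun x => ⟨IsLocalRing.closedPoint k, Subsingleton.elim _ _⟩⟩
  haveI : IsReduced K.left := OrbitTop19.isReduced_of_smooth K.hom
  haveI : IsIso η[K].left := isIso_of_isClosedImmersion_of_surjective η[K].left
  haveI : IsIso ((Over.forget (Spec (CommRingCat.of k))).map η[K]) := inferInstanceAs (IsIso η[K].left)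
  haveI : IsIso η[K] := isIso_of_reflects_iso η[K] (Over.forget _)
  have hid : (𝟙 K : K ⟶ K) = 1 := by
    rw [Hom.one_def, ← cancel_epi η[K], Category.comp_id, ← Category.assoc, toUnit_unique (η[K] ≫ toUnit K) (𝟙 _),
      Category.id_comp]
  rw [← hgj, show g = g ≫ 𝟙 K from (Category.comp_id g).symm, hid, MonObj.comp_one, MonObj.one_comp]

/-- The largest connected affine normal subgroup contains every connected affine subgroup. -/
theorem exists_factor_affine (G : Over (Spec (CommRingCat.of k))) [GrpObj G] [Smooth G.hom] [QuasiCompact G.hom]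
    [ConnectedSpace G.left] (N : Over (Spec (CommRingCat.of k))) [GrpObj N] (i : N ⟶ G) [IsMonHom i]
    [IsClosedImmersion i.left] [Smooth N.hom] [ConnectedSpace N.left] [IsAffine N.left] (hN : AlgGrp.IsNormalHom i)
    (hmax : ∀ (N' : Over (Spec (CommRingCat.of k))) [GrpObj N'] (i' : N' ⟶ G) [IsMonHom i'] [IsClosedImmersion i'.left]
      [Smooth N'.hom] [ConnectedSpace ↥N'.left] [IsAffine N'.left], AlgGrp.IsNormalHom i' → ∃ f : N' ⟶ N, f ≫ i = i')
    {H : Over (Spec (CommRingCat.of k))} [GrpObj H] [Smooth H.hom] [ConnectedSpace H.left] [IsAffine H.left]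
    (h : H ⟶ G) [IsMonHom h] : ∃ f : H ⟶ N, f ≫ i = h := by
  obtain ⟨A, _, q, hqm, -, -, -, hker, hAp, -, -⟩ := exists_chevalley G N i hN hmax
  haveI := hqm; haveI := hAp
  have h1 : h ≫ q = toUnit H ≫ η[A] := (eq_one_of_affine (h ≫ q)).trans Hom.one_def
  exact ⟨hker.lift h (toUnit H) h1, hker.lift_fst _ _ _⟩

/-- A quotient by a connected affine subgroup is universal for maps to abelian varieties. -/
theorem existsUnique_factor {G N A B : Over (Spec (CommRingCat.of k))} [GrpObj G] [Smooth G.hom] [QuasiCompact G.hom]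
    [ConnectedSpace G.left] [GrpObj N] [Smooth N.hom] [ConnectedSpace N.left] [IsAffine N.left]
    (i : N ⟶ G) [IsMonHom i] [GrpObj A] [LocallyOfFiniteType A.hom] (α : G ⟶ A) [IsMonHom α] [Surjective α.left]
    [Flat α.left] (hker : AlgGrp.IsKernel i α) [GrpObj B] [IsProper B.hom] (f : G ⟶ B) :
    ∃! g : A ⟶ B, α ≫ g = f := by
  haveI : QuasiCompact α.left := AlgGrpBasic19.quasiCompact_left α
  haveI := AlgGrpBasic19.epi_of_cover α
  haveI : IsSeparated G.hom := AbRigid.isSeparated_of_grpObj G
  haveI := AbRigid.geometricallyReduced_of_smooth G.hom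
  haveI : GeometricallyIntegral G.hom := AbRigid.geometricallyIntegral_of_connected G
  let c : 𝟙_ (Over (Spec (CommRingCat.of k))) ⟶ B := η[G] ≫ f
  let h : G ⟶ B := f * (toUnit G ≫ c)⁻¹
  have hfh : f = h * (toUnit G ≫ c) := by simp [h]
  haveI : IsMonHom h := RatMapAV.isMonHom_of_smooth G B h (by
    simp only [h, MonObj.comp_mul, GrpObj.comp_inv]
    rw [← Category.assoc η[G] (toUnit G), toUnit_unique (η[G] ≫ toUnit G) (𝟙 _), Category.id_comp, mul_inv_cancel,
      Hom.one_def, toUnit_unique (toUnit _) (𝟙 _), Category.id_comp])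
  have hN : i ≫ h = 1 := eq_one_of_affine (i ≫ h)
  obtain ⟨h', hh'⟩ := AlgGrpBasic19.exists_desc α h fun T a b e => by
    have hk : (a⁻¹ * b) ≫ α = toUnit T ≫ η[A] := by
      rw [MonObj.mul_comp, GrpObj.inv_comp, e, inv_mul_cancel, Hom.one_def]
    have h2 : (a⁻¹ * b) ≫ h = 1 := by
      rw [← hker.lift_fst _ _ hk, Category.assoc, hN, MonObj.comp_one]
    rw [MonObj.mul_comp, GrpObj.inv_comp] at h2
    exact inv_mul_eq_one.mp h2
  refine ⟨h' * (toUnit A ≫ c), ?_, fun g hg => ?_⟩
  · show α ≫ (h' * (toUnit A ≫ c)) = f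
    rw [MonObj.comp_mul, hh', ← Category.assoc, comp_toUnit, ← hfh]
  · rw [← cancel_epi α, hg, MonObj.comp_mul, hh', ← Category.assoc, comp_toUnit, ← hfh]

end Groth.Agent.AffPart25
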