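import Groth.Agent.S3036
import Groth.Agent.S7520
import Groth.Agent.Lib.QuotField20.Normal
import Groth.Agent.Lib.AlgGrpBasic19.Basic
import Groth.Agent.Lib.AbRigid.KernelPair
import Groth.Agent.Lib.CubeField.Product
import Groth.Agent.Lib.GrpDim20.Basic
import Groth.Agent.Lib.GrpFin20.Basic
import Groth.Agent.Lib.GrpUnr20.Basic
import Groth.Agent.Lib.SecDiv18.Peel
import Groth.Agent.Lib.GrpCM20.Basic

/-!
# The smallest normal subgroup with proper quotient
-/

set_option autoImplicit false
set_option linter.style.haveILetI false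
set_option backward.isDefEq.respectTransparency false
set_option backward.isDefEq.respectTransparency.types false

universe u

open CategoryTheory CategoryTheory.Limits MonoidalCategory CartesianMonoidalCategory MonObj AlgebraicGeometry

noncomputable section

namespace Groth.Agent.AffPart25

variable {k : Type u} [Field k]

/-- The quotient of a group of finite type by a closed normal subgroup. -/
theorem exists_quotient_any {G N : Over (Spec (CommRingCat.of k))} [GrpObj G] [GrpObj N] [LocallyOfFiniteType G.hom]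
    [QuasiCompact G.hom] (n : N ⟶ G) [IsMonHom n] [IsClosedImmersion n.left] (hN : AlgGrp.IsNormalHom n) :
    ∃ (Q : Over (Spec (CommRingCat.of k))) (_ : GrpObj Q) (q : G ⟶ Q), IsMonHom q ∧
      Flat q.left ∧ Surjective q.left ∧ QuasiCompact q.left ∧ LocallyOfFinitePresentation q.left ∧
      AlgGrp.IsKernel n q ∧ LocallyOfFiniteType Q.hom ∧ QuasiCompact Q.hom := by
  haveI : IsSeparated G.hom := AbRigid.isSeparated_of_grpObj G
  haveI : Mono n := Over.mono_of_mono_left n
  haveI : LocallyOfFiniteType N.hom := by rw [← Over.w n]; infer_instance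
  obtain ⟨Q, p, hp, hpb, hQ, -⟩ := QuotField20.exists_quotient_field n
  obtain ⟨_, hpm, hker⟩ := QuotField20.exists_grpObj_quotient n hp hpb hN
  haveI := hpm
  haveI := hp.surj
  haveI := hp.flat
  haveI := hQ
  haveI : CompactSpace G.left := (quasiCompact_iff_compactSpace G.hom).1 inferInstance
  haveI : CompactSpace Q.left := ⟨by
    rw [← (p.left.surjective).range_eq]
    exact isCompact_range p.left.continuous⟩
  haveI : QuasiCompact Q.hom := (quasiCompact_iff_compactSpace Q.hom).2 inferInstance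
  exact ⟨Q, inferInstance, p, hpm, hp.flat, hp.surj, AlgGrpBasic19.quasiCompact_left p, hp.lfp, hker, inferInstance,
    inferInstance⟩

/-- A homomorphism killing the kernel of a quotient map factors through it by a homomorphism. -/
theorem exists_desc_hom {G Q B N : Over (Spec (CommRingCat.of k))} [GrpObj G] [GrpObj Q] [GrpObj B] (i : N ⟶ G)
    (q : G ⟶ Q) [IsMonHom q] [Flat q.left] [Surjective q.left] [QuasiCompact q.left] (hk : AlgGrp.IsKernel i q)
    (φ : G ⟶ B) [IsMonHom φ] (h : i ≫ φ = 1) : ∃ d : Q ⟶ B, q ≫ d = φ ∧ IsMonHom d := by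
  obtain ⟨d, hd⟩ := AlgGrpBasic19.exists_desc q φ fun T a b e => by
    have hkT : (a⁻¹ * b) ≫ q = toUnit T ≫ η[Q] := by
      rw [MonObj.mul_comp, GrpObj.inv_comp, e, inv_mul_cancel, Hom.one_def]
    have h2 : (a⁻¹ * b) ≫ φ = 1 := by rw [← hk.lift_fst _ _ hkT, Category.assoc, h, MonObj.comp_one]
    rw [MonObj.mul_comp, GrpObj.inv_comp] at h2
    exact inv_mul_eq_one.mp h2
  refine ⟨d, hd, ?_, ?_⟩
  · rw [← IsMonHom.one_hom q, Category.assoc, hd, IsMonHom.one_hom]
  · haveI : Flat (q ⊗ₘ q).left ∧ Surjective (q ⊗ₘ q).left ∧ QuasiCompact (q ⊗ₘ q).left := by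
      rw [MonoidalCategory.tensorHom_def, Over.comp_left]
      have h1 := (AbRigid.isPullback_whiskerRight q G).map (Over.forget _)
      have h2 := (AbRigid.isPullback_whiskerLeft q Q).map (Over.forget _)
      haveI : Surjective (q ▷ G).left := MorphismProperty.of_isPullback h1 ‹Surjective q.left›
      haveI : Flat (q ▷ G).left := MorphismProperty.of_isPullback h1 ‹Flat q.left›
      haveI : QuasiCompact (q ▷ G).left := MorphismProperty.of_isPullback h1 ‹QuasiCompact q.left›
      haveI : Surjective (Q ◁ q).left := MorphismProperty.of_isPullback h2 ‹Surjective q.left›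
      haveI : Flat (Q ◁ q).left := MorphismProperty.of_isPullback h2 ‹Flat q.left›
      haveI : QuasiCompact (Q ◁ q).left := MorphismProperty.of_isPullback h2 ‹QuasiCompact q.left›
      exact ⟨inferInstance, inferInstance, inferInstance⟩
    obtain ⟨hf, hs, hc⟩ := this
    haveI := hf; haveI := hs; haveI := hc
    haveI := AlgGrpBasic19.epi_of_cover (q ⊗ₘ q)
    rw [← cancel_epi (q ⊗ₘ q), ← IsMonHom.mul_hom_assoc (f := q), hd,
      MonoidalCategory.tensorHom_comp_tensorHom_assoc, hd, IsMonHom.mul_hom]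

/-- The homomorphism induced on the quotient by the kernel is a monomorphism. -/
theorem mono_desc {G Q B N : Over (Spec (CommRingCat.of k))} [GrpObj G] [GrpObj Q] [GrpObj B] (i : N ⟶ G)
    (q : G ⟶ Q) [IsMonHom q] [Flat q.left] [Surjective q.left] [QuasiCompact q.left] (hk : AlgGrp.IsKernel i q)
    (φ : G ⟶ B) [IsMonHom φ] (hkφ : AlgGrp.IsKernel i φ) (d : Q ⟶ B) [IsMonHom d] (hd : q ≫ d = φ) : Mono d := by
  refine ⟨fun {T} a b e => inv_mul_eq_one.1 ?_⟩
  have h : (a⁻¹ * b) ≫ d = 1 := by rw [MonObj.mul_comp, GrpObj.inv_comp, e, inv_mul_cancel]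
  let W := pullback (a⁻¹ * b) q
  let p : W ⟶ T := pullback.fst (a⁻¹ * b) q
  let g : W ⟶ G := pullback.snd (a⁻¹ * b) q
  have hsq : IsPullback p g (a⁻¹ * b) q := IsPullback.of_hasPullback _ _
  haveI : Flat p.left := MorphismProperty.of_isPullback (hsq.map (Over.forget _)).flip ‹Flat q.left›
  haveI : Surjective p.left := MorphismProperty.of_isPullback (hsq.map (Over.forget _)).flip ‹Surjective q.left›
  haveI : QuasiCompact p.left := MorphismProperty.of_isPullback (hsq.map (Over.forget _)).flip ‹QuasiCompact q.left›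
  haveI := AlgGrpBasic19.epi_of_cover p
  have hg : g ≫ φ = toUnit W ≫ η[B] := by
    rw [← hd, ← Category.assoc, ← hsq.w, Category.assoc, h, MonObj.comp_one, Hom.one_def]
  rw [← cancel_epi p, MonObj.comp_one, hsq.w, ← hkφ.lift_fst g (toUnit W) hg, Category.assoc, hk.w, ← Category.assoc,
    comp_toUnit, ← Hom.one_def]

/-- Two normal subgroups with proper quotient contain a third one. -/
theorem exists_inf {G Q₁ Q₂ N₁ N₂ : Over (Spec (CommRingCat.of k))} [GrpObj G] [GrpObj Q₁] [GrpObj Q₂]
    [LocallyOfFiniteType G.hom] [QuasiCompact G.hom]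
    [IsProper Q₁.hom] [IsProper Q₂.hom] (i₁ : N₁ ⟶ G) (q₁ : G ⟶ Q₁) [IsMonHom q₁] (hk₁ : AlgGrp.IsKernel i₁ q₁)
    (i₂ : N₂ ⟶ G) (q₂ : G ⟶ Q₂) [IsMonHom q₂] (hk₂ : AlgGrp.IsKernel i₂ q₂) :
    ∃ (N : Over (Spec (CommRingCat.of k))) (_ : GrpObj N) (i : N ⟶ G) (Q : Over (Spec (CommRingCat.of k)))
      (_ : GrpObj Q) (q : G ⟶ Q), IsMonHom i ∧ IsClosedImmersion i.left ∧ AlgGrp.IsNormalHom i ∧ IsMonHom q ∧
      Surjective q.left ∧ Flat q.left ∧ AlgGrp.IsKernel i q ∧ IsProper Q.hom ∧
      (∃ a : N ⟶ N₁, a ≫ i₁ = i) ∧ ∃ b : N ⟶ N₂, b ≫ i₂ = i := by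
  let φ : G ⟶ Q₁ ⊗ Q₂ := lift q₁ q₂
  haveI : IsMonHom φ := inferInstanceAs (IsMonHom (lift q₁ q₂))
  haveI : IsProper (Q₁ ⊗ Q₂).hom := by
    show IsProper (pullback.fst Q₁.hom Q₂.hom ≫ Q₁.hom)
    infer_instance
  let N := pullback φ η[Q₁ ⊗ Q₂]
  let i : N ⟶ G := pullback.fst φ η[Q₁ ⊗ Q₂]
  have hk : AlgGrp.IsKernel i φ := by
    show IsPullback i (toUnit N) φ η[Q₁ ⊗ Q₂]
    rw [toUnit_unique (toUnit N) (pullback.snd φ η[Q₁ ⊗ Q₂])]
    exact IsPullback.of_hasPullback φ η[Q₁ ⊗ Q₂]
  obtain ⟨_, hi⟩ := GrpDim20.exists_grpObj_kernel φ i hk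
  haveI := hi
  haveI : IsClosedImmersion η[Q₁ ⊗ Q₂].left :=
    isClosedImmersion_of_comp_eq_id (Q₁ ⊗ Q₂).hom _ (Over.w η[Q₁ ⊗ Q₂])
  haveI : IsClosedImmersion i.left :=
    MorphismProperty.of_isPullback (hk.map (Over.forget _)).flip ‹IsClosedImmersion η[Q₁ ⊗ Q₂].left›
  haveI : Mono i := Over.mono_of_mono_left i
  have hi1 : i ≫ φ = 1 := hk.w.trans Hom.one_def.symm
  have hN : AlgGrp.IsNormalHom i := fun T g n => by
    refine ⟨hk.lift (g * (n ≫ i) * g⁻¹) (toUnit T) ?_, (hk.lift_fst _ _ _).symm⟩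
    rw [MonObj.mul_comp, MonObj.mul_comp, GrpObj.inv_comp, Category.assoc, hi1, MonObj.comp_one, _root_.mul_one,
      mul_inv_cancel, Hom.one_def]
  obtain ⟨Q, _, q, hq, hqf, hqs, hqc, -, hkq, hQl, hQq⟩ := exists_quotient_any i hN
  haveI := hq; haveI := hqf; haveI := hqs; haveI := hqc; haveI := hQl; haveI := hQq
  obtain ⟨d, hd, hdm⟩ := exists_desc_hom i q hkq φ hi1
  haveI := hdm
  haveI : Mono d := mono_desc i q hkq φ hk d hd
  haveI : QuasiCompact d.left := AlgGrpBasic19.quasiCompact_left d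
  haveI : IsClosedImmersion d.left := S3036.result k Q (Q₁ ⊗ Q₂) d
  haveI : IsProper Q.hom := by rw [← Over.w d]; infer_instance
  have h1 : i ≫ q₁ = toUnit N ≫ η[Q₁] := by
    rw [← lift_fst q₁ q₂, ← Category.assoc, hi1, MonObj.one_comp, Hom.one_def]
  have h2 : i ≫ q₂ = toUnit N ≫ η[Q₂] := by
    rw [← lift_snd q₁ q₂, ← Category.assoc, hi1, MonObj.one_comp, Hom.one_def]
  exact ⟨N, inferInstance, i, Q, inferInstance, q, hi, inferInstance, hN, hq, hqs, hqf, hkq, inferInstance,
    ⟨hk₁.lift i (toUnit N) h1, hk₁.lift_fst _ _ _⟩, hk₂.lift i (toUnit N) h2, hk₂.lift_fst _ _ _⟩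

/-- A minimal normal subgroup with proper quotient is the smallest one. -/
theorem exists_smallest' (G : Over (Spec (CommRingCat.of k))) [GrpObj G] [LocallyOfFiniteType G.hom]
    [QuasiCompact G.hom] :
    ∃ (N : Over (Spec (CommRingCat.of k))) (_ : GrpObj N) (i : N ⟶ G) (Q : Over (Spec (CommRingCat.of k)))
      (_ : GrpObj Q) (q : G ⟶ Q), IsMonHom i ∧ IsClosedImmersion i.left ∧ AlgGrp.IsNormalHom i ∧ IsMonHom q ∧
      Surjective q.left ∧ Flat q.left ∧ AlgGrp.IsKernel i q ∧ IsProper Q.hom ∧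
      ∀ (Q' : Over (Spec (CommRingCat.of k))) [GrpObj Q'] [IsProper Q'.hom] (q' : G ⟶ Q') [IsMonHom q'],
        i ≫ q' = 1 := by
  haveI : IsLocallyNoetherian G.left := LocallyOfFiniteType.isLocallyNoetherian G.hom
  haveI : CompactSpace G.left := (quasiCompact_iff_compactSpace G.hom).1 inferInstance
  haveI : IsNoetherian G.left := { }
  haveI : WellFoundedGT G.left.IdealSheafData := SecDiv.wellFoundedGT
  let S : Set G.left.IdealSheafData := {I | ∃ (N : Over (Spec (CommRingCat.of k))) (_ : GrpObj N) (i : N ⟶ G)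
    (Q : Over (Spec (CommRingCat.of k))) (_ : GrpObj Q) (q : G ⟶ Q), IsMonHom i ∧ IsClosedImmersion i.left ∧
      AlgGrp.IsNormalHom i ∧ IsMonHom q ∧ Surjective q.left ∧ Flat q.left ∧ AlgGrp.IsKernel i q ∧ IsProper Q.hom ∧
      i.left.ker = I}
  have hS : S.Nonempty := by
    let U := 𝟙_ (Over (Spec (CommRingCat.of k)))
    haveI : IsProper U.hom := inferInstanceAs (IsProper (𝟙 (Spec (CommRingCat.of k))))
    haveI : Flat (toUnit G).left := inferInstanceAs (Flat G.hom)
    haveI : Nonempty G.left := ⟨η[G].left (IsLocalRing.closedPoint k)⟩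
    haveI : Surjective (toUnit G).left := ⟨fun s => ⟨Classical.arbitrary _, Subsingleton.elim (α := PrimeSpectrum k) _ _⟩⟩
    haveI : IsClosedImmersion (𝟙 G : G ⟶ G).left := by rw [Over.id_left]; infer_instance
    haveI : IsIso η[U] := by rw [toUnit_unique η[U] (𝟙 _)]; infer_instance
    exact ⟨_, G, inferInstance, 𝟙 G, U, inferInstance, toUnit G, inferInstance, inferInstance,
      fun T g n => ⟨g * n * g⁻¹, by simp⟩, inferInstance, inferInstance, inferInstance,
      IsPullback.of_horiz_isIso ⟨toUnit_unique _ _⟩, inferInstance, rfl⟩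
  obtain ⟨I, ⟨N, _, i, Q, _, q, hi, hic, hin, hq, hqs, hqf, hk, hQ, hI⟩, hmax⟩ :=
    (wellFounded_gt (α := G.left.IdealSheafData)).has_min S hS
  haveI := hi; haveI := hic; haveI := hq; haveI := hqs; haveI := hqf; haveI := hQ
  refine ⟨N, inferInstance, i, Q, inferInstance, q, hi, hic, hin, hq, hqs, hqf, hk, hQ, fun Q' _ _ q' _ => ?_⟩
  let N' := pullback q' η[Q']
  let i' : N' ⟶ G := pullback.fst q' η[Q']
  have hk' : AlgGrp.IsKernel i' q' := by
    show IsPullback i' (toUnit N') q' η[Q']
    rw [toUnit_unique (toUnit N') (pullback.snd q' η[Q'])]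
    exact IsPullback.of_hasPullback q' η[Q']
  obtain ⟨M, _, j, R, _, r, hj, hjc, hjn, hr, hrs, hrf, hkr, hR, ⟨a, ha⟩, b, hb⟩ := exists_inf i q hk i' q' hk'
  haveI := hjc
  have hle : i.left.ker ≤ j.left.ker := by
    rw [← ha, Over.comp_left]
    exact Scheme.Hom.le_ker_comp _ _
  have he : i.left.ker = j.left.ker := by
    by_contra hne
    exact hmax _ ⟨M, _, j, R, _, r, hj, hjc, hjn, hr, hrs, hrf, hkr, hR, rfl⟩ (hI ▸ lt_of_le_of_ne hle hne)
  haveI : IsIso a.left := IsClosedImmersion.isIso_of_ker_eq j.left i.left a.left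
    (by rw [← Over.comp_left, ha]) he.symm
  haveI : IsIso ((Over.forget (Spec (CommRingCat.of k))).map a) := ‹IsIso a.left›
  haveI : IsIso a := isIso_of_reflects_iso a (Over.forget _)
  rw [← cancel_epi a, MonObj.comp_one, ← Category.assoc, ha, ← hb, Category.assoc, hk'.w, ← Category.assoc,
    comp_toUnit, ← Hom.one_def]

/-- A group with an open point at the unit is quasi-finite over the field. -/
theorem locallyQuasiFinite_of_isOpen_one (K : Over (Spec (CommRingCat.of k))) [GrpObj K] [LocallyOfFiniteType K.hom]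
    [QuasiCompact K.hom] (h : IsOpen ({η[K].left (IsLocalRing.closedPoint k)} : Set K.left)) :
    LocallyQuasiFinite K.hom := by
  set e := η[K].left (IsLocalRing.closedPoint k)
  haveI : IsSeparated K.hom := AbRigid.isSeparated_of_grpObj K
  haveI : IsClosedImmersion η[K].left := isClosedImmersion_of_comp_eq_id K.hom _ (Over.w η[K])
  have hc : IsClosed ({e} : Set K.left) := by
    convert η[K].left.isClosedEmbedding.isClosed_range
    ext z
    constructor
    · rintro rfl; exact ⟨_, rfl⟩
    · rintro ⟨w, rfl⟩; exact congrArg _ (Subsingleton.elim (α := PrimeSpectrum k) w _)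
  have hb : Order.coheight e = ((0 : ℕ) : ℕ∞) := by
    rw [Nat.cast_zero, Order.coheight_eq_zero]
    intro y hy
    exact (show y = e from h.stableUnderGeneralization hy rfl) ▸ le_rfl
  haveI : IsLocallyNoetherian K.left := LocallyOfFiniteType.isLocallyNoetherian K.hom
  have hdim : topologicalKrullDim K.left = 0 := by
    rw [← GrpCM20.localDim_eq K e, DimF18.localDim_eq K.hom hb, (VarDim.sdim_eq_zero_iff_isClosed K.hom e).2 hc]
    rfl
  haveI := IsLocallyArtinian.of_topologicalKrullDim_le_zero (X := K.left) hdim.le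
  haveI : DiscreteTopology K.left := inferInstance
  haveI : CompactSpace K.left := (quasiCompact_iff_compactSpace K.hom).1 inferInstance
  haveI : Finite K.left := finite_of_compact_of_discrete
  exact locallyQuasiFinite_iff_finite_preimage_singleton.2 fun _ => Set.toFinite _

/-- The smallest normal subgroup with proper quotient, which is connected. -/
theorem exists_smallest (G : Over (Spec (CommRingCat.of k))) [GrpObj G] [LocallyOfFiniteType G.hom]
    [QuasiCompact G.hom] :
    ∃ (N : Over (Spec (CommRingCat.of k))) (_ : GrpObj N) (i : N ⟶ G) (Q : Over (Spec (CommRingCat.of k)))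
      (_ : GrpObj Q) (q : G ⟶ Q), IsMonHom i ∧ IsClosedImmersion i.left ∧ AlgGrp.IsNormalHom i ∧
      ConnectedSpace N.left ∧ IsMonHom q ∧ Surjective q.left ∧ Flat q.left ∧ AlgGrp.IsKernel i q ∧ IsProper Q.hom ∧
      ∀ (Q' : Over (Spec (CommRingCat.of k))) [GrpObj Q'] [IsProper Q'.hom] (q' : G ⟶ Q') [IsMonHom q'],
        i ≫ q' = 1 := by
  obtain ⟨N, _, i, Q, _, q, hi, hic, hin, hq, hqs, hqf, hk, hQ, hsmall⟩ := exists_smallest' G
  haveI := hi; haveI := hic; haveI := hq; haveI := hqs; haveI := hqf; haveI := hQ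
  haveI : Mono i := Over.mono_of_mono_left i
  haveI : LocallyOfFiniteType N.hom := by rw [← Over.w i]; infer_instance
  haveI : QuasiCompact N.hom := by rw [← Over.w i]; infer_instance
  refine ⟨N, inferInstance, i, Q, inferInstance, q, hi, hic, hin, ?_, hq, hqs, hqf, hk, hQ, hsmall⟩
  obtain ⟨N₀, _, j, hj, hjc, hjf, hjr, hjg, -⟩ := S7520.result k N
  haveI := hj; haveI := hjc; haveI := hjf; haveI := hjg
  haveI : IsLocallyNoetherian N.left := LocallyOfFiniteType.isLocallyNoetherian N.hom
  haveI : LocallyOfFiniteType N₀.hom := by rw [← Over.w j]; infer_instance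
  haveI : LocallyOfFinitePresentation j.left := VarDim.locallyOfFinitePresentation_of_locallyNoetherian j.left
  haveI : IsOpenImmersion j.left := IsOpenImmersion.of_flat_of_mono j.left
  haveI : IsMonHom (j ≫ i) := inferInstance
  haveI : IsClosedImmersion (j ≫ i).left := by rw [Over.comp_left]; infer_instance
  haveI := CubeField.geometricallyConnected_of_irreducible N₀.hom
  haveI : GeometricallyConnected (fst G N₀).left :=
    inferInstanceAs (GeometricallyConnected (pullback.fst G.hom N₀.hom))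
  -- the neutral component is normal
  have hjn : AlgGrp.IsNormalHom (j ≫ i) := by
    obtain ⟨c, hc⟩ := hin (G ⊗ N₀) (fst G N₀) (snd G N₀ ≫ j)
    have hsub : Set.range c.left ⊆ Set.range j.left := by
      rw [hjr]
      rintro _ ⟨z, rfl⟩
      let s : G ⟶ G ⊗ N₀ := lift (𝟙 G) (toUnit G ≫ η[N₀])
      have hs : s ≫ c = 1 := by
        rw [← cancel_mono i, Category.assoc, ← hc, MonObj.one_comp]
        simp only [s, MonObj.comp_mul, GrpObj.comp_inv, Category.assoc, lift_fst, lift_snd_assoc, Category.id_comp]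
        rw [IsMonHom.one_hom_assoc j, IsMonHom.one_hom i, ← Hom.one_def, _root_.mul_one, mul_inv_cancel]
      let g := (fst G N₀).left z
      have hsg : (fst G N₀).left (s.left g) = g := by
        rw [← Scheme.Hom.comp_apply, ← Over.comp_left, lift_fst, Over.id_left]; rfl
      have hconn := ((fst G N₀).left.isConnected_preimage_singleton g).isPreconnected.image c.left
        c.left.continuous.continuousOn
      refine hconn.subset_connectedComponent ⟨s.left g, hsg, ?_⟩ ⟨z, rfl, rfl⟩
      rw [← Scheme.Hom.comp_apply, ← Over.comp_left, hs, Hom.one_def, Over.comp_left, Scheme.Hom.comp_apply]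
      exact congrArg _ (Subsingleton.elim (α := PrimeSpectrum k) _ _)
    let l : (G ⊗ N₀).left ⟶ N₀.left := IsOpenImmersion.lift j.left c.left hsub
    let l' : G ⊗ N₀ ⟶ N₀ := Over.homMk l (by rw [← Over.w j, IsOpenImmersion.lift_fac_assoc, Over.w c])
    have hl' : l' ≫ j = c := Over.OverMorphism.ext (IsOpenImmersion.lift_fac _ _ _)
    intro T t n
    refine ⟨lift t n ≫ l', ?_⟩
    rw [Category.assoc, ← Category.assoc l' j i, hl', ← hc]
    simp only [MonObj.comp_mul, GrpObj.comp_inv, lift_fst, Category.assoc, lift_snd_assoc]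
  obtain ⟨R, _, r, hr, hrf, hrs, hrc, hrp, hkr, hRl, hRq⟩ := exists_quotient_any (j ≫ i) hjn
  haveI := hr; haveI := hrf; haveI := hrs; haveI := hrc; haveI := hrp; haveI := hRl; haveI := hRq
  obtain ⟨d, hd, hdm⟩ := exists_desc_hom (j ≫ i) r hkr q (by
    rw [Category.assoc, hk.w, ← Category.assoc, comp_toUnit, Hom.one_def])
  haveI := hdm
  -- the induced map has finite kernel
  let K := pullback d η[Q]
  let e : K ⟶ R := pullback.fst d η[Q]
  have hke : AlgGrp.IsKernel e d := by
    show IsPullback e (toUnit K) d η[Q]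
    rw [toUnit_unique (toUnit K) (pullback.snd d η[Q])]
    exact IsPullback.of_hasPullback d η[Q]
  obtain ⟨_, hem⟩ := GrpDim20.exists_grpObj_kernel d e hke
  haveI := hem
  haveI : IsClosedImmersion η[Q].left := isClosedImmersion_of_comp_eq_id Q.hom _ (Over.w η[Q])
  haveI : IsClosedImmersion e.left :=
    MorphismProperty.of_isPullback (hke.map (Over.forget _)).flip ‹IsClosedImmersion η[Q].left›
  haveI : Mono e := Over.mono_of_mono_left e
  haveI : LocallyOfFiniteType K.hom := by rw [← Over.w e]; infer_instance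
  haveI : QuasiCompact K.hom := by rw [← Over.w e]; infer_instance
  let ρ : N ⟶ K := hke.lift (i ≫ r) (toUnit N) (by rw [Category.assoc, hd]; exact hk.w)
  have hρ : ρ ≫ e = i ≫ r := hke.lift_fst _ _ _
  have hsq : IsPullback i ρ r e := by
    refine IsPullback.of_bot ?_ hρ.symm hke
    rw [toUnit_unique (ρ ≫ toUnit K) (toUnit N), hd]
    exact hk
  haveI : Flat ρ.left := MorphismProperty.of_isPullback (hsq.map (Over.forget _)) ‹Flat r.left›
  haveI : LocallyOfFinitePresentation ρ.left :=
    MorphismProperty.of_isPullback (hsq.map (Over.forget _)) ‹LocallyOfFinitePresentation r.left›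
  have hopen : IsOpen ({η[K].left (IsLocalRing.closedPoint k)} : Set K.left) := by
    have h1 : j ≫ ρ = 1 := by
      rw [← cancel_mono e, Category.assoc, hρ, ← Category.assoc, hkr.w, MonObj.one_comp, Hom.one_def]
    have h2 : Set.range (j ≫ ρ).left = {η[K].left (IsLocalRing.closedPoint k)} := by
      refine Set.eq_singleton_iff_nonempty_unique_mem.2
        ⟨⟨_, η[N₀].left (IsLocalRing.closedPoint k), rfl⟩, ?_⟩
      rintro _ ⟨z, rfl⟩
      rw [h1, Hom.one_def, Over.comp_left, Scheme.Hom.comp_apply]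
      exact congrArg _ (Subsingleton.elim (α := PrimeSpectrum k) _ _)
    rw [← h2, Over.comp_left, Scheme.Hom.comp_base, TopCat.coe_comp, Set.range_comp]
    exact ρ.left.isOpenMap _ j.left.isOpenEmbedding.isOpen_range
  haveI : QuasiCompact d.left := AlgGrpBasic19.quasiCompact_left d
  haveI : LocallyOfFiniteType d.left := AlgGrpBasic19.lft_left d
  haveI : LocallyQuasiFinite d.left :=
    GrpUnr20.locallyQuasiFinite_of_kernel d e hke (locallyQuasiFinite_of_isOpen_one K hopen)
  haveI : IsFinite d.left := GrpFin20.isFinite_of_field R Q d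
  haveI : IsProper R.hom := by rw [← Over.w d]; infer_instance
  -- minimality
  obtain ⟨l, hl⟩ : ∃ l : N ⟶ N₀, l ≫ j ≫ i = i :=
    ⟨hkr.lift i (toUnit N) ((hsmall R r).trans Hom.one_def), hkr.lift_fst _ _ _⟩
  have hlj : l ≫ j = 𝟙 N := by rw [← cancel_mono i, Category.assoc, hl, Category.id_comp]
  haveI : ConnectedSpace N₀.left := by
    haveI : GeometricallyConnected N₀.hom := inferInstance
    have h1 := N₀.hom.isConnected_preimage_singleton (IsLocalRing.closedPoint k)
    rw [show N₀.hom ⁻¹' {IsLocalRing.closedPoint k} = Set.univ from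
      Set.eq_univ_of_forall fun z => Subsingleton.elim (α := PrimeSpectrum k) _ _] at h1
    exact connectedSpace_iff_univ.2 h1
  refine Function.Surjective.connectedSpace (f := j.left) (fun x => ⟨l.left x, ?_⟩) j.left.continuous
  rw [← Scheme.Hom.comp_apply, ← Over.comp_left, hlj, Over.id_left]
  rfl

end Groth.Agent.AffPart25
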