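import Groth.Agent.Lib.AlgSpDescent.SchemeSource
import Groth.Agent.Lib.AffPart25.Albanese
import Groth.Agent.Lib.AffPart25.Perfect
import Groth.Agent.Lib.AffPart25.Smallest

/-!
# Homomorphisms to proper groups with affine kernel: smooth groups over perfect fields
-/

set_option autoImplicit false
set_option linter.style.haveILetI false
set_option backward.isDefEq.respectTransparency false
set_option backward.isDefEq.respectTransparency.types false
set_option maxSynthPendingDepth 3

universe u

open CategoryTheory Limits MonoidalCategory CartesianMonoidalCategory MonObj GrpObj AlgebraicGeometry Opposite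
open Groth.Agent Groth.Agent.DiagGL Groth.Agent.MTRigid29 Groth.Agent.WeilRes21

noncomputable section

namespace Groth.Agent.AffPart25

variable {k : Type u} [Field k]

/-- A homomorphism to a proper group with affine kernel. -/
def HasAffProperHom (G : Over (Spec (CommRingCat.of k))) [GrpObj G] : Prop :=
  ∃ (Q : Over (Spec (CommRingCat.of k))) (_ : GrpObj Q) (q : G ⟶ Q) (N : Over (Spec (CommRingCat.of k))) (i : N ⟶ G),
    IsMonHom q ∧ IsProper Q.hom ∧ AlgGrp.IsKernel i q ∧ IsAffine N.left

/-- Affine homomorphisms pull back homomorphisms to proper groups with affine kernel. -/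
theorem hasAffProperHom_comp {G G' : Over (Spec (CommRingCat.of k))} [GrpObj G] [GrpObj G'] (f : G ⟶ G') [IsMonHom f]
    [IsAffineHom f.left] (h : HasAffProperHom G') : HasAffProperHom G := by
  obtain ⟨Q, _, q, N, i, hq, hQ, hk, hN⟩ := h
  haveI := hq; haveI := hQ; haveI := hN
  let P := pullback f i
  have hsq : IsPullback (pullback.fst f i) (pullback.snd f i) f i := IsPullback.of_hasPullback f i
  haveI : IsAffineHom (pullback.snd f i).left :=
    MorphismProperty.of_isPullback (P := @IsAffineHom) (hsq.map (Over.forget _)) ‹IsAffineHom f.left›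
  haveI : IsAffine P.left := isAffine_of_isAffineHom (pullback.snd f i).left
  refine ⟨Q, inferInstance, f ≫ q, P, pullback.fst f i, inferInstance, hQ, ?_, inferInstance⟩
  have h2 := hsq.paste_vert hk
  rwa [toUnit_unique (pullback.snd f i ≫ toUnit N) (toUnit P)] at h2

/-- Chevalley's theorem for smooth groups over algebraically closed fields. -/
theorem exists_chevalley_any [IsAlgClosed k] (G : Over (Spec (CommRingCat.of k))) [GrpObj G] [Smooth G.hom]
    [QuasiCompact G.hom] :
    ∃ (N : Over (Spec (CommRingCat.of k))) (_ : GrpObj N) (i : N ⟶ G) (A : Over (Spec (CommRingCat.of k)))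
      (_ : GrpObj A) (q : G ⟶ A), IsMonHom i ∧ IsClosedImmersion i.left ∧ Smooth N.hom ∧ ConnectedSpace N.left ∧
      IsAffine N.left ∧ AlgGrp.IsNormalHom i ∧ IsMonHom q ∧ Flat q.left ∧ Surjective q.left ∧ QuasiCompact q.left ∧
      AlgGrp.IsKernel i q ∧ IsProper A.hom := by
  haveI : IsSeparated G.hom := AbRigid.isSeparated_of_grpObj G
  haveI : LocallyOfFiniteType G.hom := inferInstance
  obtain ⟨G₀, _, j, hjm, hjo, hjc, hG₀s, hG₀q, hG₀n⟩ := Chevalley25.exists_neutral G
  haveI := hjm; haveI := hjo; haveI := hjc; haveI := hG₀s; haveI := hG₀q; haveI := hG₀n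
  obtain ⟨N, _, i₀, ⟨him, hic, hNs, hNc, hNa, hNn⟩, hmax⟩ := exists_largest G₀
  haveI := him; haveI := hic; haveI := hNs; haveI := hNc; haveI := hNa
  haveI : Mono j := Over.mono_of_mono_left j
  let i : N ⟶ G := i₀ ≫ j
  haveI : IsMonHom i := inferInstanceAs (IsMonHom (i₀ ≫ j))
  haveI : IsClosedImmersion i.left := inferInstanceAs (IsClosedImmersion (i₀.left ≫ j.left))
  haveI : Mono i := Over.mono_of_mono_left i
  have hj : ∀ {H : Over (Spec (CommRingCat.of k))} [GrpObj H] (h : H ⟶ G) [IsMonHom h] [ConnectedSpace H.left],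
      Set.range h.left ⊆ Set.range j.left := fun {H} _ h _ _ => by
    have hr : IsClopen (Set.range j.left) :=
      ⟨j.left.isClosedEmbedding.isClosed_range, j.left.isOpenEmbedding.isOpen_range⟩
    have hc : _root_.IsConnected (Set.range h.left) := isConnected_range h.left.continuous
    refine hc.isPreconnected.subset_isClopen hr ⟨h.left (η[H].left (IsLocalRing.closedPoint k)), ⟨_, rfl⟩,
      η[G₀].left (IsLocalRing.closedPoint k), ?_⟩
    rw [← Scheme.Hom.comp_apply, ← Scheme.Hom.comp_apply, ← Over.comp_left, ← Over.comp_left, IsMonHom.one_hom,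
      IsMonHom.one_hom]
  have hn : AlgGrp.IsNormalHom i := by
    let c : G ⊗ N ⟶ G := fst G N * (snd G N ≫ i) * (fst G N)⁻¹
    haveI : Smooth (G ⊗ N).hom := by
      show Smooth (pullback.fst G.hom N.hom ≫ G.hom)
      infer_instance
    haveI : IsReduced (G ⊗ N).left := OrbitTop19.isReduced_of_smooth (G ⊗ N).hom
    haveI : JacobsonSpace (G ⊗ N).left :=
      LocallyOfFiniteType.jacobsonSpace (Y := Spec (CommRingCat.of k)) (G ⊗ N).hom
    have hpt : closedPoints (G ⊗ N).left ⊆ c.left ⁻¹' Set.range i.left := fun z hz => by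
      obtain ⟨t, rfl⟩ := Chevalley25.exists_ptIm (G := G ⊗ N) hz
      let u : 𝟙_ (Over (Spec (CommRingCat.of k))) ⟶ specOver k k := Over.homMk (𝟙 _) (by
        show 𝟙 _ ≫ Spec.map (CommRingCat.ofHom (algebraMap k k)) = 𝟙 _
        rw [Category.id_comp, Algebra.algebraMap_self]; exact Spec.map_id _)
      let g := u ≫ t ≫ fst G N
      let h : N ⟶ G := (toUnit N ≫ g) * i * (toUnit N ≫ g)⁻¹
      haveI : IsMonHom h := TorsorSch25.isMonHom_of_points h fun T a b => by
        simp only [h, MonObj.comp_mul, GrpObj.comp_inv, ← Category.assoc, comp_toUnit, MonObj.mul_comp]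
        group
      have hsub := hj h
      haveI : IsOpenImmersion j.left := hjo
      let l : N ⟶ G₀ := Over.homMk (IsOpenImmersion.lift j.left h.left hsub)
        (by rw [← Over.w j, IsOpenImmersion.lift_fac_assoc, Over.w h])
      have hl : l ≫ j = h := Over.OverMorphism.ext (IsOpenImmersion.lift_fac _ _ _)
      haveI : IsMonHom l := ⟨by rw [← cancel_mono j, Category.assoc, hl, IsMonHom.one_hom, IsMonHom.one_hom],
        by rw [← cancel_mono j, Category.assoc, hl, IsMonHom.mul_hom, Category.assoc, IsMonHom.mul_hom,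
          MonoidalCategory.tensorHom_comp_tensorHom_assoc, hl]⟩
      obtain ⟨f, hf⟩ := exists_factor_affine G₀ N i₀ hNn hmax l
      refine ⟨(u ≫ t ≫ snd G N ≫ f).left (IsLocalRing.closedPoint k), ?_⟩
      have e : (u ≫ t ≫ snd G N ≫ f) ≫ i = u ≫ t ≫ c := by
        rw [show i = i₀ ≫ j from rfl]
        simp only [Category.assoc, reassoc_of% hf, hl]
        simp only [h, c, g, MonObj.comp_mul, GrpObj.comp_inv, ← Category.assoc]
        rw [comp_toUnit, toUnit_unique (toUnit (𝟙_ _)) (𝟙 _)]
        simp only [Category.id_comp]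
      rw [← Scheme.Hom.comp_apply, ← Over.comp_left, e]
      rfl
    have hsub : Set.range c.left ⊆ Set.range i.left := by
      have hcl := i.left.isClosedEmbedding.isClosed_range.preimage c.left.continuous
      have := (closure_mono hpt).trans hcl.closure_subset
      rw [closure_closedPoints] at this
      rintro _ ⟨z, rfl⟩
      exact this (Set.mem_univ z)
    obtain ⟨l, hl⟩ := RedSepLib.exists_lift_of_range_subset c.left i.left hsub
    let l' : G ⊗ N ⟶ N := Over.homMk l (by rw [← Over.w i, reassoc_of% hl, Over.w c])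
    have hl' : l' ≫ i = c := Over.OverMorphism.ext hl
    intro T t n
    refine ⟨lift t n ≫ l', ?_⟩
    rw [Category.assoc, hl']
    simp only [c, MonObj.comp_mul, GrpObj.comp_inv, lift_fst, lift_snd_assoc]
  obtain ⟨A₀, _, q₀, hq₀, hq₀f, hq₀s, hq₀q, hk₀, hA₀, -, -⟩ := exists_chevalley G₀ N i₀ hNn hmax
  haveI := hq₀; haveI := hq₀f; haveI := hq₀s; haveI := hq₀q; haveI := hA₀
  obtain ⟨A, _, q, hq, hqf, hqs, hqq, hk, hAs, hAq⟩ := exists_quotient i hn
  haveI := hq; haveI := hqf; haveI := hqs; haveI := hqq; haveI := hAs; haveI := hAq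
  obtain ⟨d, hd, hdm⟩ := exists_desc_hom i₀ q₀ hk₀ (j ≫ q) (by
    rw [← Category.assoc, hk.w]; rfl)
  haveI := hdm
  have hk₀' : AlgGrp.IsKernel i₀ (j ≫ q) := by
    have h1 : IsPullback i₀ (𝟙 N) j i := IsPullback.of_vert_isIso_mono ⟨(Category.id_comp i).symm⟩
    have h2 := h1.paste_vert hk
    rwa [Category.id_comp] at h2
  haveI : Mono d := mono_desc i₀ q₀ hk₀ (j ≫ q) hk₀' d hd
  haveI : QuasiCompact d.left := AlgGrpBasic19.quasiCompact_left d
  haveI : Flat (q₀.left ≫ d.left) := by rw [← Over.comp_left, hd, Over.comp_left]; infer_instance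
  haveI : Flat d.left := AlgSpDescent.flat_of_comp_flat_surjective q₀.left d.left
  haveI : IsClosedImmersion d.left := S3036.result k A₀ A d
  haveI : IsLocallyNoetherian A.left := LocallyOfFiniteType.isLocallyNoetherian A.hom
  haveI : LocallyOfFiniteType d.left := AlgGrpBasic19.lft_left d
  haveI : LocallyOfFinitePresentation d.left := VarDim.locallyOfFinitePresentation_of_locallyNoetherian d.left
  haveI : IsOpenImmersion d.left := IsOpenImmersion.of_flat_of_mono d.left
  haveI := Chevalley25.isProper_of_openSubgroup A d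
  exact ⟨N, inferInstance, i, A, inferInstance, q, inferInstance, inferInstance, hNs, hNc, hNa, hn, hq, hqf, hqs, hqq,
    hk, inferInstance⟩

/-- **Chevalley's theorem** over a perfect field. -/
theorem hasAffProperHom_of_smooth [PerfectField k] (G : Over (Spec (CommRingCat.of k))) [GrpObj G] [Smooth G.hom]
    [QuasiCompact G.hom] :
    HasAffProperHom G := by
  let π : Spec (CommRingCat.of (AlgebraicClosure k)) ⟶ Spec (CommRingCat.of k) :=
    Spec.map (CommRingCat.ofHom (algebraMap k (AlgebraicClosure k)))
  haveI : IsSeparated G.hom := AbRigid.isSeparated_of_grpObj G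
  haveI : Smooth (Red.bc π G).hom := inferInstanceAs (Smooth (pullback.snd G.hom π))
  haveI : QuasiCompact (Red.bc π G).hom := inferInstanceAs (QuasiCompact (pullback.snd G.hom π))
  obtain ⟨N, _, i, A, _, q, him, hic, hNs, hNc, hNa, hNn, hqm, hqf, hqs, hqq, hk, hAp⟩ :=
    exists_chevalley_any (Red.bc π G)
  haveI := him; haveI := hic; haveI := hNs; haveI := hNc; haveI := hNa
  haveI := hqm; haveI := hqf; haveI := hqs; haveI := hqq; haveI := hAp
  haveI : Surjective π := ⟨fun z => ⟨IsLocalRing.closedPoint _, Subsingleton.elim _ _⟩⟩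
  haveI : Flat π := inferInstance
  haveI : IsAffineHom N.hom := inferInstance
  have hcov : ∀ V : (Spec (CommRingCat.of k)).Opens, IsAffineOpen V →
      ∃ W : (Spec (CommRingCat.of (AlgebraicClosure k))).Opens,
        IsCompact (W : Set (Spec (CommRingCat.of (AlgebraicClosure k)))) ∧
          π.base '' (W : Set (Spec (CommRingCat.of (AlgebraicClosure k)))) = (V : Set _) := fun V hV =>
    ⟨π ⁻¹ᵁ V, π.isCompact_preimage hV.isCompact, Set.image_preimage_eq _ π.surjective⟩
  obtain ⟨L, _, l, hl, -, φ, hφ⟩ := exists_descent i (fun p => affine_indep i q hk p) hcov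
  haveI := hl
  haveI hlc' : IsClosedImmersion ((Over.pullback π).map l).left := by
    haveI : IsIso φ.hom.left := (inferInstance : IsIso ((Over.forget _).map φ.hom))
    rw [← hφ, Over.comp_left]
    infer_instance
  haveI hlc : IsClosedImmersion l.left := by
    haveI := @FpqcDesc.descendsAlong_isClosedImmersion.{u}
    exact MorphismProperty.of_isPullback_of_descendsAlong (P := @IsClosedImmersion)
      (Q := @Surjective ⊓ @Flat ⊓ @QuasiCompact) (MTRigid29.isPullback_map_left π l).flip
      ⟨⟨inferInstance, inferInstance⟩, inferInstance⟩ hlc'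
  haveI : IsIso φ.hom.left := (inferInstance : IsIso ((Over.forget _).map φ.hom))
  haveI : Smooth L.hom := MorphismProperty.of_pullback_snd_of_descendsAlong (P := @Smooth)
    (Q := @Surjective ⊓ @Flat ⊓ @QuasiCompact) ⟨⟨inferInstance, inferInstance⟩, inferInstance⟩
    (f := L.hom) (g := π) (by
      show Smooth (Red.bc π L).hom
      rw [← Over.w φ.hom]; infer_instance)
  haveI : IsAffine L.left := by
    haveI := FpqcDesc.descendsAlong_isAffineHom.{u}
    haveI : IsAffineHom L.hom := MorphismProperty.of_pullback_snd_of_descendsAlong (P := @IsAffineHom)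
      (Q := @Surjective ⊓ @Flat ⊓ @QuasiCompact) ⟨⟨inferInstance, inferInstance⟩, inferInstance⟩
      (f := L.hom) (g := π) (by
        show IsAffineHom (Red.bc π L).hom
        rw [← Over.w φ.hom]; infer_instance)
    exact isAffine_of_isAffineHom L.hom
  haveI : ConnectedSpace L.left := TorPts21.connectedSpace_of_bc π
    (φ.hom.left.homeomorph.symm.surjective.connectedSpace φ.hom.left.homeomorph.symm.continuous)
  have hln : AlgGrp.IsNormalHom l := isNormalHom_of_bc l π i hNn φ hφ
  obtain ⟨Q, _, c, hcm, hcf, hcs, hcq, hcp, hkc, hQl, hQq⟩ := exists_quotient_field' l hln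
  haveI := hcm; haveI := hcf; haveI := hcs; haveI := hcq; haveI := hQl; haveI := hQq
  haveI : Smooth Q.hom := AlgSpDescent.smooth_of_fppf_comp c.left Q.hom hcf hcp hcs (by rw [Over.w]; infer_instance)
  -- properness after extension
  haveI : Smooth (Red.bc π Q).hom := inferInstanceAs (Smooth (pullback.snd Q.hom π))
  haveI : QuasiCompact (Red.bc π Q).hom := inferInstanceAs (QuasiCompact (pullback.snd Q.hom π))
  haveI : Surjective ((Over.pullback π).map c).left :=
    MorphismProperty.of_isPullback (P := @Surjective) (BorelFix21.isPullback_bc_map π c) ‹_›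
  obtain ⟨d, hd⟩ := AlgGrpBasic19.exists_desc q ((Over.pullback π).map c) fun T a b e => by
    have hkT : (a⁻¹ * b) ≫ q = toUnit T ≫ η[A] := by
      rw [MonObj.mul_comp, GrpObj.inv_comp, e, inv_mul_cancel, Hom.one_def]
    have h1 : i ≫ (Over.pullback π).map c = 1 := by
      rw [← cancel_epi φ.hom, MonObj.comp_one, ← Category.assoc, hφ, (isKernel_bc l c hkc π).w, Hom.one_def]
    have h2 : (a⁻¹ * b) ≫ (Over.pullback π).map c = 1 := by
      rw [← hk.lift_fst _ _ hkT, Category.assoc, h1, MonObj.comp_one]
    rw [MonObj.mul_comp, GrpObj.inv_comp] at h2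
    exact inv_mul_eq_one.mp h2
  haveI : Surjective d.left := by
    haveI : Surjective (q.left ≫ d.left) := by rw [← Over.comp_left, hd]; infer_instance
    exact Surjective.of_comp q.left d.left
  haveI : IsProper Q.hom := by
    haveI := @FpqcDesc.descendsAlong_isProper.{u}
    refine MorphismProperty.of_pullback_snd_of_descendsAlong (P := @IsProper)
      (Q := @Surjective ⊓ @Flat ⊓ @QuasiCompact) ⟨⟨inferInstance, inferInstance⟩, inferInstance⟩
      (f := Q.hom) (g := π) ?_
    show IsProper (Red.bc π Q).hom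
    haveI : UniversallyClosed (d.left ≫ (Red.bc π Q).hom) := by rw [Over.w]; infer_instance
    haveI : UniversallyClosed (Red.bc π Q).hom := UniversallyClosed.of_comp_surjective d.left _
    haveI : IsSeparated (Red.bc π Q).hom := AbRigid.isSeparated_of_grpObj _
    exact { }
  exact ⟨Q, inferInstance, c, L, l, hcm, inferInstance, hkc, inferInstance⟩

end Groth.Agent.AffPart25
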