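import Groth.Agent.Lib.AffPart25.AffHom
import Groth.Agent.Lib.FrobSub19.Basic
import Groth.Agent.Lib.FrobUH12.Basic
import Groth.Agent.Lib.Semiab15.Model
import Groth.Agent.Lib.Cartier.Smooth
import Mathlib.FieldTheory.PurelyInseparable.Exponent
import Mathlib.FieldTheory.PurelyInseparable.PerfectClosure

/-!
# Homomorphisms to proper groups with affine kernel: groups of finite type over any field
-/

set_option autoImplicit false
set_option linter.style.haveILetI false
set_option backward.isDefEq.respectTransparency false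
set_option backward.isDefEq.respectTransparency.types false
set_option maxSynthPendingDepth 3

universe u

open CategoryTheory Limits MonoidalCategory CartesianMonoidalCategory MonObj GrpObj AlgebraicGeometry Opposite
open Groth.Agent Groth.Agent.DiagGL Groth.Agent.MTRigid29

noncomputable section

namespace Groth.Agent.AffPart25

variable {k : Type u} [Field k]

/-- Base change preserves homomorphisms to proper groups with affine kernel. -/
theorem hasAffProperHom_bc {K : Type u} [Field K] (ρ : Spec (CommRingCat.of K) ⟶ Spec (CommRingCat.of k))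
    {G : Over (Spec (CommRingCat.of k))} [GrpObj G] (h : HasAffProperHom G) : HasAffProperHom (Red.bc ρ G) := by
  obtain ⟨Q, _, q, N, i, hq, hQ, hk, hN⟩ := h
  haveI := hq; haveI := hQ; haveI := hN
  haveI : IsAffineHom (Red.bc ρ N).hom :=
    (MorphismProperty.pullback_snd (P := @IsAffineHom) N.hom ρ inferInstance : IsAffineHom (pullback.snd N.hom ρ))
  refine ⟨Red.bc ρ Q, inferInstance, (Over.pullback ρ).map q, Red.bc ρ N, (Over.pullback ρ).map i, inferInstance,
    (MorphismProperty.pullback_snd (P := @IsProper) Q.hom ρ hQ : IsProper (pullback.snd Q.hom ρ)),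
    isKernel_bc i q hk ρ, isAffine_of_isAffineHom (Red.bc ρ N).hom⟩

section Frob

variable (p : ℕ) [Fact p.Prime]

/-- Powers killing a section kill it under the iterated Frobenius. -/
theorem frobIter_app_eq_zero {X : Scheme.{u}} [FrobSch.IsCharP X p] :
    ∀ (n : ℕ) (U : X.Opens) (s : Γ(X, U)), s ^ p ^ n = 0 → (FrobSch.frobIter X p n).app U s = 0
  | 0, U, s, h => by
    rw [pow_zero, pow_one] at h
    rw [h, map_zero]
  | n + 1, U, s, h => by
    have h1 := frobIter_app_eq_zero n U (s ^ p) (by rw [← pow_mul, ← pow_succ']; exact h)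
    rw [map_pow] at h1
    exact h1

/-- A large iterate of the Frobenius of a noetherian scheme factors through every surjective closed immersion. -/
theorem exists_frobIter_ker_le (X : Scheme.{u}) [FrobSch.IsCharP X p] [CompactSpace X] [IsLocallyNoetherian X] :
    ∃ n : ℕ, ∀ {R : Scheme.{u}} (r : R ⟶ X) [IsClosedImmersion r] [Surjective r],
      r.ker ≤ (FrobSch.frobIter X p n).ker := by
  classical
  obtain ⟨t, ht⟩ := isCompact_univ.elim_finite_subcover (fun U : X.affineOpens => (U.1 : Set X)) (fun U => U.1.2)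
    (fun x _ => by
      obtain ⟨U, hU, hx, -⟩ := exists_isAffineOpen_mem_and_subset (X := X) (x := x) (U := ⊤) trivial
      exact Set.mem_iUnion.2 ⟨⟨U, hU⟩, hx⟩)
  have hb : ∀ U : X.affineOpens, ∃ m : ℕ, ∀ s ∈ nilradical Γ(X, U.1), s ^ m = 0 := fun U => by
    haveI : IsNoetherianRing Γ(X, U.1) := IsLocallyNoetherian.component_noetherian U
    obtain ⟨m, hm⟩ := IsNoetherianRing.isNilpotent_nilradical Γ(X, U.1)
    exact ⟨m, fun s hs => Ideal.mem_bot.1 ((hm.symm ▸ Ideal.pow_mem_pow hs m :) )⟩
  choose m hm using hb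
  refine ⟨t.sup m, fun {R} r _ _ => ?_⟩
  haveI : IsAffineHom (FrobSch.frobIter X p (t.sup m)) := ⟨fun V hV => by
    convert hV
    ext z
    simp [FrobSub19.frobIter_apply]⟩
  refine Scheme.IdealSheafData.le_of_iSup_eq_top (fun U : (t : Set X.affineOpens) => U.1) ?_ fun U s hs => ?_
  · refine top_le_iff.1 fun x _ => ?_
    obtain ⟨U, hU, hx⟩ := Set.mem_iUnion₂.1 (ht (Set.mem_univ x))
    exact TopologicalSpace.Opens.mem_iSup.2 ⟨⟨U, hU⟩, hx⟩
  have hle : r.ker ≤ X.nilradical := by
    rw [← Scheme.IdealSheafData.vanishingIdeal_top, ← Scheme.IdealSheafData.le_support_iff_le_vanishingIdeal]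
    intro x _
    show x ∈ (r.ker.support : Set X)
    rw [r.support_ker]
    exact subset_closure (r.surjective x)
  have hs' : s ∈ nilradical Γ(X, U.1.1) := by
    have := hle U.1 hs
    simpa [Scheme.nilradical, nilradical] using this
  rw [Scheme.Hom.ker_apply, RingHom.mem_ker]
  refine frobIter_app_eq_zero p _ _ _ ?_
  exact pow_eq_zero_of_le ((Finset.le_sup U.2).trans (Nat.lt_pow_self (Fact.out : p.Prime).one_lt).le)
    (hm U.1 s hs')

variable {K : Type u} [Field K] [CharP k p]

/-- The relative Frobenius along a factorisation of the iterated Frobenius of the base. -/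
theorem exists_relFrob (n : ℕ) (σ : Spec (CommRingCat.of K) ⟶ Spec (CommRingCat.of k))
    (ρ : Spec (CommRingCat.of k) ⟶ Spec (CommRingCat.of K))
    (h : ρ ≫ σ = FrobSch.frobIter (Spec (CommRingCat.of k)) p n) (G : Over (Spec (CommRingCat.of k))) [GrpObj G]
    [LocallyOfFiniteType G.hom] :
    ∃ Φ : G ⟶ Red.bc ρ (Red.bc σ G), IsMonHom Φ ∧ IsAffineHom Φ.left ∧
      Φ.left ≫ pullback.fst (Red.bc σ G).hom ρ ≫ pullback.fst G.hom σ = FrobSub19.frN p n G := by
  have hF' : ∀ T : Over (Spec (CommRingCat.of k)), FrobSub19.frN p n T ≫ T.hom = (T.hom ≫ ρ) ≫ σ := fun T => by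
    haveI := FrobSch.IsCharP.of_hom T.hom p
    rw [Category.assoc, h]
    exact FrobSub19.frobIter_comp p T.hom n
  let Φ : ∀ T : Over (Spec (CommRingCat.of k)), T ⟶ Red.bc ρ (Red.bc σ T) := fun T =>
    Over.homMk (pullback.lift (pullback.lift (FrobSub19.frN p n T) (T.hom ≫ ρ) (hF' T)) T.hom
      (pullback.lift_snd _ _ _)) (pullback.lift_snd _ _ _)
  have hΦn : ∀ {T T' : Over (Spec (CommRingCat.of k))} (f : T ⟶ T'),
      f ≫ Φ T' = Φ T ≫ (Over.pullback ρ).map ((Over.pullback σ).map f) := by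
    intro T T' f
    have hnat : FrobSub19.frN p n T ≫ f.left = f.left ≫ FrobSub19.frN p n T' := by
      haveI := FrobSch.IsCharP.of_hom T.hom p
      haveI := FrobSch.IsCharP.of_hom T'.hom p
      exact FrobSub19.frobIter_comp p f.left n
    refine Over.OverMorphism.ext (pullback.hom_ext (pullback.hom_ext ?_ ?_) ?_)
    · simp [Φ, hnat]
    · simp [Φ]
    · simp [Φ]
  haveI hm : IsMonHom (Φ G) := FrobSub19.isMonHom_app (Over.pullback σ) (Over.pullback ρ) Φ hΦn G
  have he : (Φ G).left ≫ pullback.fst (Red.bc σ G).hom ρ ≫ pullback.fst G.hom σ = FrobSub19.frN p n G := by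
    simp [Φ]
  refine ⟨Φ G, hm, ?_, he⟩
  haveI := FrobSch.IsCharP.of_hom G.hom p
  haveI : IsAffineHom (FrobSub19.frN p n G) := ⟨fun V hV => by
    convert hV
    ext z
    simp [FrobSub19.frN, FrobSub19.frobIter_apply]⟩
  haveI : IsAffineHom ((Φ G).left ≫ (pullback.fst (Red.bc σ G).hom ρ ≫ pullback.fst G.hom σ)) := by
    rw [he]; infer_instance
  haveI : IsSeparated G.hom := AbRigid.isSeparated_of_grpObj G
  haveI : IsAffineHom σ := isAffineHom_of_isAffine σ
  haveI : IsAffineHom ρ := isAffineHom_of_isAffine ρ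
  haveI : IsAffineHom (pullback.fst (Red.bc σ G).hom ρ) := MorphismProperty.pullback_fst _ _ inferInstance
  haveI : IsAffineHom (pullback.fst G.hom σ) := MorphismProperty.pullback_fst _ _ inferInstance
  exact IsAffineHom.of_comp (Φ G).left (pullback.fst (Red.bc σ G).hom ρ ≫ pullback.fst G.hom σ)

end Frob

/-- Groups of finite type over perfect fields of positive characteristic. -/
theorem hasAffProperHom_of_perfect (p : ℕ) [Fact p.Prime] [CharP k p] [PerfectField k] (G : Over (Spec (CommRingCat.of k))) [GrpObj G]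
    [LocallyOfFiniteType G.hom] [QuasiCompact G.hom] : HasAffProperHom G := by
  haveI := FrobSch.IsCharP.of_hom G.hom p
  haveI : IsLocallyNoetherian G.left := LocallyOfFiniteType.isLocallyNoetherian G.hom
  haveI : CompactSpace G.left := (quasiCompact_iff_compactSpace G.hom).1 inferInstance
  obtain ⟨n, hn⟩ := exists_frobIter_ker_le p G.left
  haveI : ExpChar k p := ExpChar.prime Fact.out
  haveI : PerfectRing k p := PerfectField.toPerfectRing p
  let F := FrobSch.frobIter (Spec (CommRingCat.of k)) p n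
  haveI : IsIso F := by
    show IsIso (FrobSch.frobIter (Spec (CommRingCat.of k)) p n)
    rw [FrobSub19.frobIter_spec p k n (iterateFrobenius k p n) (fun r => iterateFrobenius_def p n r)]
    haveI : IsIso (CommRingCat.ofHom (iterateFrobenius k p n)) :=
      (ConcreteCategory.isIso_iff_bijective _).2 (bijective_iterateFrobenius k p n)
    infer_instance
  obtain ⟨Φ, hΦ, hΦa, hΦe⟩ := exists_relFrob p n (𝟙 (Spec (CommRingCat.of k))) F (Category.comp_id _) G
  haveI := hΦ; haveI := hΦa
  let G' := Red.bc F (Red.bc (𝟙 (Spec (CommRingCat.of k))) G)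
  haveI : LocallyOfFiniteType (Red.bc (𝟙 (Spec (CommRingCat.of k))) G).hom :=
    inferInstanceAs (LocallyOfFiniteType (pullback.snd G.hom _))
  haveI : QuasiCompact (Red.bc (𝟙 (Spec (CommRingCat.of k))) G).hom :=
    inferInstanceAs (QuasiCompact (pullback.snd G.hom _))
  haveI : LocallyOfFiniteType G'.hom := inferInstanceAs (LocallyOfFiniteType (pullback.snd _ F))
  haveI : QuasiCompact G'.hom := inferInstanceAs (QuasiCompact (pullback.snd _ F))
  obtain ⟨R, _, r, hr, hrc, hrs, hRr, hRs⟩ := BorelFix21.exists_reduced_subgroup G'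
  haveI := hr; haveI := hrc; haveI := hrs; haveI := hRs
  haveI : QuasiCompact R.hom := by rw [← Over.w r]; infer_instance
  haveI : Mono r := Over.mono_of_mono_left r
  let P : G'.left ⟶ G.left :=
    pullback.fst (Red.bc (𝟙 (Spec (CommRingCat.of k))) G).hom F ≫ pullback.fst G.hom (𝟙 _)
  haveI : IsIso P := inferInstanceAs (IsIso (pullback.fst _ F ≫ pullback.fst _ _))
  have hP : Φ.left ≫ P = FrobSch.frobIter G.left p n := hΦe
  have hle : (r.left ≫ P).ker ≤ (FrobSch.frobIter G.left p n).ker := hn (r.left ≫ P)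
  let f := IsClosedImmersion.lift (r.left ≫ P) (FrobSch.frobIter G.left p n) hle
  have hf : f ≫ r.left = Φ.left := by
    rw [← cancel_mono P, Category.assoc, hP]
    exact IsClosedImmersion.lift_fac _ _ _
  let Φ' : G ⟶ R := Over.homMk f (by rw [← Over.w r, reassoc_of% hf, Over.w Φ])
  have hΦ' : Φ' ≫ r = Φ := Over.OverMorphism.ext hf
  haveI : IsMonHom Φ' := TorsorSch25.isMonHom_of_points Φ' fun T a b => by
    rw [← cancel_mono r, Category.assoc, hΦ', MonObj.mul_comp, MonObj.mul_comp]
    simp only [Category.assoc, hΦ']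
  haveI : IsAffineHom Φ'.left := by
    haveI : IsAffineHom (Φ'.left ≫ r.left) := by rw [← Over.comp_left, hΦ']; infer_instance
    exact IsAffineHom.of_comp Φ'.left r.left
  exact hasAffProperHom_comp Φ' (hasAffProperHom_of_smooth R)


/-- A homomorphism to a proper group with affine kernel over a purely inseparable extension is defined over a
finite level. -/
theorem exists_level (k K : Type u) [Field k] [Field K] [Algebra k K] [IsPurelyInseparable k K]
    (G : Over (Spec (CommRingCat.of k))) [GrpObj G] [LocallyOfFiniteType G.hom] [QuasiCompact G.hom]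
    (h : HasAffProperHom (Red.bc (Spec.map (CommRingCat.ofHom (algebraMap k K))) G)) :
    ∃ (L : Type u) (_ : Field L) (_ : Algebra k L) (_ : FiniteDimensional k L) (_ : IsPurelyInseparable k L),
      HasAffProperHom (Red.bc (Spec.map (CommRingCat.ofHom (algebraMap k L))) G) := by
  obtain ⟨Q', _, q', M, i, hq', hQ', hk, hM⟩ := h
  haveI := hq'; haveI := hQ'; haveI := hM
  obtain ⟨_, hi⟩ := GrpDim20.exists_grpObj_kernel q' i hk
  haveI := hi
  let φ := Spec.map (CommRingCat.ofHom (algebraMap k K))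
  haveI : IsSeparated G.hom := AbRigid.isSeparated_of_grpObj G
  haveI : LocallyOfFiniteType (Red.bc φ G).hom := inferInstanceAs (LocallyOfFiniteType (pullback.snd G.hom φ))
  haveI : QuasiCompact (Red.bc φ G).hom := inferInstanceAs (QuasiCompact (pullback.snd G.hom φ))
  haveI : IsClosedImmersion η[Q'].left := isClosedImmersion_of_comp_eq_id Q'.hom _ (Over.w η[Q'])
  haveI : IsClosedImmersion i.left :=
    MorphismProperty.of_isPullback (hk.map (Over.forget _)).flip ‹IsClosedImmersion η[Q'].left›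
  haveI : LocallyOfFiniteType M.hom := by rw [← Over.w i]; infer_instance
  haveI : LocallyOfFinitePresentation M.hom := LocallyOfFinitePresentation.iff_locallyOfFiniteType.2 inferInstance
  haveI : IsAffineHom M.hom := inferInstance
  haveI : LocallyOfFinitePresentation G.hom := LocallyOfFinitePresentation.iff_locallyOfFiniteType.2 inferInstance
  obtain ⟨L₁, hL₁, M₁, hM₁f, hM₁q, hM₁s, ⟨e₁⟩⟩ := Semiab15.exists_model_scheme k K M
  haveI := hL₁; haveI := hM₁f; haveI := hM₁q; haveI := hM₁s
  haveI : Algebra.IsIntegral L₁ K := Algebra.IsIntegral.tower_top k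
  let σ₁ : Spec (CommRingCat.of L₁) ⟶ Spec (CommRingCat.of k) := Spec.map (CommRingCat.ofHom (algebraMap k L₁))
  let ψ₁ : Spec (CommRingCat.of K) ⟶ Spec (CommRingCat.of L₁) := Spec.map (CommRingCat.ofHom (algebraMap L₁ K))
  have h₁ : ψ₁ ≫ σ₁ = φ := by
    rw [← Spec.map_comp]; rfl
  let W := Red.bc σ₁ G
  haveI : LocallyOfFinitePresentation W.hom := inferInstanceAs (LocallyOfFinitePresentation (pullback.snd G.hom σ₁))
  obtain ⟨L₂, hL₂, h₂, z, hz⟩ :=
    Semiab15.exists_model_hom L₁ K (Z := M₁) (W := W) (e₁.hom ≫ i ≫ (SpreadSub19.bcComp σ₁ ψ₁ h₁ G).inv)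
  haveI := hL₂
  haveI : FiniteDimensional k L₂ := Module.Finite.trans L₁ L₂
  haveI : IsScalarTower k L₂ K := IsScalarTower.of_algebraMap_eq fun x => rfl
  haveI : IsPurelyInseparable k L₂ := IsPurelyInseparable.tower_bot k L₂ K
  let σ : Spec (CommRingCat.of L₂) ⟶ Spec (CommRingCat.of k) := Spec.map (CommRingCat.ofHom (algebraMap k L₂))
  refine ⟨L₂, inferInstance, inferInstance, inferInstance, inferInstance, ?_⟩
  let φ₁₂ : Spec (CommRingCat.of L₂) ⟶ Spec (CommRingCat.of L₁) := Spec.map (CommRingCat.ofHom (algebraMap L₁ L₂))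
  let ψ₂ : Spec (CommRingCat.of K) ⟶ Spec (CommRingCat.of L₂) := Spec.map (CommRingCat.ofHom (algebraMap L₂ K))
  have hσ : φ₁₂ ≫ σ₁ = σ := by
    rw [← Spec.map_comp]; rfl
  let GS := Red.bc σ G
  show HasAffProperHom GS
  haveI : LocallyOfFiniteType GS.hom := inferInstanceAs (LocallyOfFiniteType (pullback.snd G.hom σ))
  haveI : QuasiCompact GS.hom := inferInstanceAs (QuasiCompact (pullback.snd G.hom σ))
  haveI : IsSeparated GS.hom := AbRigid.isSeparated_of_grpObj GS
  let e'' := SpreadSub19.bcComp σ₁ φ₁₂ hσ G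
  let M₀ := Red.bc φ₁₂ M₁
  let i₀ : M₀ ⟶ GS := z ≫ e''.hom
  let P := Over.pullback ψ₂
  let θ : P.obj M₀ ≅ M := SpreadSub19.bcComp φ₁₂ ψ₂ h₂ M₁ ≪≫ e₁
  let e' : Red.bc φ G ≅ P.obj GS :=
    (SpreadSub19.bcComp σ₁ ψ₁ h₁ G).symm ≪≫ (SpreadSub19.bcComp φ₁₂ ψ₂ h₂ W).symm ≪≫ P.mapIso e''
  haveI : IsMonHom e'.hom := by
    haveI := SpreadSub19.bcComp_isMonHom σ₁ ψ₁ h₁ G
    haveI := SpreadSub19.bcComp_isMonHom φ₁₂ ψ₂ h₂ W
    haveI := SpreadSub19.bcComp_isMonHom σ₁ φ₁₂ hσ G
    simp only [e', Iso.trans_hom, Iso.symm_hom, Functor.mapIso_hom]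
    infer_instance
  have hθ : P.map i₀ = θ.hom ≫ i ≫ e'.hom := by
    simp only [i₀, θ, e', Iso.trans_hom, Iso.symm_hom, Functor.mapIso_hom, Functor.map_comp, Category.assoc]
    rw [← reassoc_of% hz, Iso.hom_inv_id_assoc]
  let q'' : P.obj GS ⟶ Q' := e'.inv ≫ q'
  haveI : IsMonHom q'' := inferInstanceAs (IsMonHom (e'.inv ≫ q'))
  have hk'' : AlgGrp.IsKernel (P.map i₀) q'' :=
    hk.of_iso θ.symm e' (Iso.refl _) (Iso.refl _) (by simp [hθ]) (toUnit_unique _ _) (by simp [q'']) (by simp)
  haveI hic : IsClosedImmersion ((Over.pullback ψ₂).map i₀).left :=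
    MorphismProperty.of_isPullback (hk''.map (Over.forget _)).flip ‹IsClosedImmersion η[Q'].left›
  haveI : Surjective ψ₂ := ⟨fun z => ⟨IsLocalRing.closedPoint _, Subsingleton.elim (α := PrimeSpectrum _) _ _⟩⟩
  haveI : Flat ψ₂ := inferInstance
  haveI : IsClosedImmersion i₀.left := by
    haveI := @FpqcDesc.descendsAlong_isClosedImmersion.{u}
    exact MorphismProperty.of_isPullback_of_descendsAlong (P := @IsClosedImmersion)
      (Q := @Surjective ⊓ @Flat ⊓ @QuasiCompact) (MTRigid29.isPullback_map_left ψ₂ i₀).flip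
      ⟨⟨inferInstance, inferInstance⟩, inferInstance⟩ hic
  haveI : Mono i₀.left := inferInstance
  haveI : Mono i₀ := Over.mono_of_mono_left i₀
  have hcov : ∀ V : (Spec (CommRingCat.of L₂)).Opens, IsAffineOpen V →
      ∃ U : (Spec (CommRingCat.of K)).Opens, IsCompact (U : Set (Spec (CommRingCat.of K))) ∧
        ψ₂.base '' (U : Set (Spec (CommRingCat.of K))) = (V : Set _) := fun V hV =>
    ⟨ψ₂ ⁻¹ᵁ V, ψ₂.isCompact_preimage hV.isCompact, Set.image_preimage_eq _ ψ₂.surjective⟩
  have hi0 : P.map i₀ ≫ q'' = 1 := hk''.w.trans Hom.one_def.symm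
  have key : ∀ {X : Over (Spec (CommRingCat.of L₂))} (x : X ⟶ GS), P.map x ≫ q'' = 1 → ∃ v : X ⟶ M₀, v ≫ i₀ = x :=
    fun {X} x hx => MTRigid29.exists_fac_of_bc_eq x i₀ hcov (hk''.lift (P.map x) (toUnit _) (hx.trans Hom.one_def))
      (hk''.lift_fst _ _ _)
  have hP : ∀ {X : Over (Spec (CommRingCat.of L₂))} (g : X ⟶ M₀), P.map (g ≫ i₀) ≫ q'' = 1 := fun g => by
    rw [Functor.map_comp, Category.assoc, hi0, MonObj.comp_one]
  obtain ⟨_, hi₀⟩ := exists_grpObj_of_subgroup i₀
    (fun X g g' => key _ (by rw [Functor.map_mul, MonObj.mul_comp, hP, hP, _root_.mul_one]))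
    (key _ (by rw [Functor.map_one, MonObj.one_comp]))
    (fun X g => key _ (by rw [Functor.map_inv', GrpObj.inv_comp, hP, inv_one]))
  haveI := hi₀
  have hn : AlgGrp.IsNormalHom i₀ := fun T t g => by
    obtain ⟨v, hv⟩ := key (t * (g ≫ i₀) * t⁻¹) (by
      simp only [Functor.map_mul, Functor.map_inv', MonObj.mul_comp, GrpObj.inv_comp, hP, _root_.mul_one, mul_inv_cancel])
    exact ⟨v, hv.symm⟩
  obtain ⟨Q₀, _, c, hc, hcf, hcs, hcq, -, hkc, hQl, hQq⟩ := exists_quotient_any i₀ hn
  haveI := hc; haveI := hcf; haveI := hcs; haveI := hcq; haveI := hQl; haveI := hQq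
  haveI : Surjective (P.map c).left :=
    MorphismProperty.of_isPullback (P := @Surjective) (BorelFix21.isPullback_bc_map ψ₂ c) ‹_›
  haveI : Flat (P.map c).left :=
    MorphismProperty.of_isPullback (P := @Flat) (BorelFix21.isPullback_bc_map ψ₂ c) ‹_›
  haveI : QuasiCompact (P.map c).left :=
    MorphismProperty.of_isPullback (P := @QuasiCompact) (BorelFix21.isPullback_bc_map ψ₂ c) ‹_›
  haveI : IsMonHom (P.map c) := inferInstanceAs (IsMonHom ((Over.pullback ψ₂).map c))
  have hkc' := isKernel_bc i₀ c hkc ψ₂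
  obtain ⟨d, hd, hdm⟩ := exists_desc_hom (P.map i₀) (P.map c) hkc' q'' hi0
  haveI := hdm
  haveI : Mono d := mono_desc (P.map i₀) (P.map c) hkc' q'' hk'' d hd
  haveI : LocallyOfFiniteType (P.obj Q₀).hom := inferInstanceAs (LocallyOfFiniteType (pullback.snd Q₀.hom ψ₂))
  haveI : QuasiCompact (P.obj Q₀).hom := inferInstanceAs (QuasiCompact (pullback.snd Q₀.hom ψ₂))
  haveI : QuasiCompact d.left := AlgGrpBasic19.quasiCompact_left d
  haveI : IsClosedImmersion d.left := S3036.result K (P.obj Q₀) Q' d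
  haveI : IsProper Q₀.hom := by
    haveI := @FpqcDesc.descendsAlong_isProper.{u}
    refine MorphismProperty.of_pullback_snd_of_descendsAlong (P := @IsProper)
      (Q := @Surjective ⊓ @Flat ⊓ @QuasiCompact) ⟨⟨inferInstance, inferInstance⟩, inferInstance⟩
      (f := Q₀.hom) (g := ψ₂) ?_
    show IsProper (P.obj Q₀).hom
    rw [← Over.w d]; infer_instance
  haveI : IsAffine M₀.left := by
    haveI := FpqcDesc.descendsAlong_isAffineHom.{u}
    haveI : IsIso θ.hom.left := (inferInstance : IsIso ((Over.forget _).map θ.hom))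
    haveI : IsAffineHom M₀.hom := MorphismProperty.of_pullback_snd_of_descendsAlong (P := @IsAffineHom)
      (Q := @Surjective ⊓ @Flat ⊓ @QuasiCompact) ⟨⟨inferInstance, inferInstance⟩, inferInstance⟩
      (f := M₀.hom) (g := ψ₂) (by
        show IsAffineHom (P.obj M₀).hom
        rw [← Over.w θ.hom]; infer_instance)
    exact isAffine_of_isAffineHom M₀.hom
  exact ⟨Q₀, inferInstance, c, M₀, i₀, hc, inferInstance, hkc, inferInstance⟩

/-- **Every group of finite type over a field has a homomorphism to a proper group with affine kernel.** -/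
theorem hasAffProperHom (G : Over (Spec (CommRingCat.of k))) [GrpObj G] [LocallyOfFiniteType G.hom]
    [QuasiCompact G.hom] : HasAffProperHom G := by
  obtain ⟨p, hp⟩ := ExpChar.exists k
  rcases hp with _ | ⟨hp⟩
  · haveI : Smooth G.hom := Cartier.smooth_of_charZero G
    exact hasAffProperHom_of_smooth G
  haveI := Fact.mk hp
  haveI : ExpChar k p := ExpChar.prime hp
  haveI : CharP (AlgebraicClosure k) p :=
    charP_of_injective_algebraMap (algebraMap k (AlgebraicClosure k)).injective p
  haveI : ExpChar (AlgebraicClosure k) p := ExpChar.prime hp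
  let K := perfectClosure k (AlgebraicClosure k)
  haveI : CharP K p := charP_of_injective_algebraMap (algebraMap k K).injective p
  haveI : PerfectField K := inferInstance
  let φ : Spec (CommRingCat.of K) ⟶ Spec (CommRingCat.of k) := Spec.map (CommRingCat.ofHom (algebraMap k K))
  haveI : LocallyOfFiniteType (Red.bc φ G).hom := inferInstanceAs (LocallyOfFiniteType (pullback.snd G.hom φ))
  haveI : QuasiCompact (Red.bc φ G).hom := inferInstanceAs (QuasiCompact (pullback.snd G.hom φ))
  obtain ⟨L, _, _, _, _, hL⟩ := exists_level k K G (hasAffProperHom_of_perfect p (Red.bc φ G))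
  let n := IsPurelyInseparable.exponent k L
  let ψ : L →+* k := IsPurelyInseparable.iterateFrobenius k L p (le_refl n)
  let σ : Spec (CommRingCat.of L) ⟶ Spec (CommRingCat.of k) := Spec.map (CommRingCat.ofHom (algebraMap k L))
  let ρ : Spec (CommRingCat.of k) ⟶ Spec (CommRingCat.of L) := Spec.map (CommRingCat.ofHom ψ)
  obtain ⟨Φ, hΦ, hΦa, -⟩ := exists_relFrob p n σ ρ (by
    rw [FrobSub19.frobIter_spec p k n (ψ.comp (algebraMap k L))
      (fun a => IsPurelyInseparable.iterateFrobenius_algebraMap L p (le_refl n) a), ← Spec.map_comp]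
    rfl) G
  haveI := hΦ; haveI := hΦa
  exact hasAffProperHom_comp Φ (hasAffProperHom_bc ρ hL)

/-- The smallest normal subgroup with proper quotient is affine. -/
theorem isAffine_of_smallest {G N : Over (Spec (CommRingCat.of k))} [GrpObj G] [LocallyOfFiniteType G.hom]
    [QuasiCompact G.hom] (i : N ⟶ G) [IsClosedImmersion i.left]
    (h : ∀ (Q' : Over (Spec (CommRingCat.of k))) [GrpObj Q'] [IsProper Q'.hom] (q' : G ⟶ Q') [IsMonHom q'],
      i ≫ q' = 1) : IsAffine N.left := by
  obtain ⟨Q, _, q, M, m, hq, hQ, hk, hM⟩ := hasAffProperHom G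
  haveI := hq; haveI := hQ; haveI := hM
  let a : N ⟶ M := hk.lift i (toUnit N) ((h Q q).trans Hom.one_def)
  have ha : a ≫ m = i := hk.lift_fst _ _ _
  haveI : IsSeparated G.hom := AbRigid.isSeparated_of_grpObj G
  haveI : IsClosedImmersion (a.left ≫ m.left) := by rw [← Over.comp_left, ha]; infer_instance
  haveI : IsSeparated (m.left ≫ G.hom) := by rw [Over.w m]; infer_instance
  haveI : IsSeparated m.left := IsSeparated.of_comp m.left G.hom
  haveI : IsClosedImmersion a.left := IsClosedImmersion.of_comp a.left m.left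
  exact isAffine_of_isAffineHom a.left

end Groth.Agent.AffPart25
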