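import Groth.Agent.Lib.AffPart25.AlbSmallest

/-!
# The kernel of the Albanese homomorphism of the neutral component is the smallest normal subgroup with proper quotient
-/

set_option autoImplicit false
set_option linter.style.haveILetI false
set_option backward.isDefEq.respectTransparency false
set_option backward.isDefEq.respectTransparency.types false
set_option maxSynthPendingDepth 3

universe u

open CategoryTheory Limits MonoidalCategory CartesianMonoidalCategory MonObj GrpObj AlgebraicGeometry Opposite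
open Groth.Agent Groth.Agent.DiagGL Groth.Agent.MTRigid29

noncomputable section

namespace Groth.Agent.AffPart25

variable {k : Type u} [Field k]

/-- A kernel of a homomorphism restricted along a monomorphism. -/
theorem isKernel_restrict {G G₀ Q M : Over (Spec (CommRingCat.of k))} [GrpObj G] [GrpObj Q] (j : G₀ ⟶ G) [Mono j]
    (q : G ⟶ Q) (m : M ⟶ G₀) (hk : AlgGrp.IsKernel (m ≫ j) q) : AlgGrp.IsKernel m (j ≫ q) := by
  have h1 : IsPullback m (𝟙 M) j (m ≫ j) := IsPullback.of_vert_isIso_mono ⟨(Category.id_comp _).symm⟩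
  have h2 := h1.paste_vert hk
  rwa [Category.id_comp] at h2

/-- The quotient by the twisted kernels is proper over an algebraically closed field. -/
theorem isProper_quotient_of_twists [IsAlgClosed k] {G G₀ A Q M : Over (Spec (CommRingCat.of k))} [GrpObj G] [GrpObj G₀]
    [GrpObj A] [GrpObj Q] [LocallyOfFiniteType G.hom] [QuasiCompact G.hom] [IsProper A.hom]
    [LocallyOfFiniteType Q.hom] [QuasiCompact Q.hom]
    (j : G₀ ⟶ G) [IsMonHom j] [Mono j] [IsOpenImmersion j.left] [QuasiCompact G₀.hom]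
    (c : G ⊗ G₀ ⟶ G₀) (hc : c ≫ j = fst G G₀ * (snd G G₀ ≫ j) * (fst G G₀)⁻¹) (α : G₀ ⟶ A) [IsMonHom α]
    (m : M ⟶ G₀) (q : G ⟶ Q) [IsMonHom q] [Flat q.left] [Surjective q.left] (hk : AlgGrp.IsKernel (m ≫ j) q)
    (hM : ∀ (Z : Over (Spec (CommRingCat.of k))) (x : Z ⟶ G₀),
      (∀ (Z' : Over (Spec (CommRingCat.of k))) (s : Z' ⟶ Z) (g : Z' ⟶ G), (lift g (s ≫ x) ≫ c) ≫ α = 1) →
      ∃ w : Z ⟶ M, w ≫ m = x) : IsProper Q.hom := by
  haveI : LocallyOfFiniteType G₀.hom := by rw [← Over.w j]; infer_instance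
  obtain ⟨A', _, ψ, hψ, hA', htw⟩ := exists_twists j c hc α
  haveI := hψ; haveI := hA'
  have hkψ : AlgGrp.IsKernel (pullback.fst ψ η[A']) ψ := by
    show IsPullback (pullback.fst ψ η[A']) (toUnit _) ψ η[A']
    rw [toUnit_unique (toUnit _) (pullback.snd ψ η[A'])]
    exact IsPullback.of_hasPullback ψ η[A']
  let p : pullback ψ η[A'] ⟶ G₀ := pullback.fst ψ η[A']
  obtain ⟨S, _, s₀, hs₀, hs₀f, hs₀s, hs₀q, -, hks, hS, hSl, hSq, -⟩ := exists_image_proper p ψ hkψ
  haveI := hs₀; haveI := hs₀f; haveI := hs₀s; haveI := hs₀q; haveI := hS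
  have hp : p ≫ ψ = 1 := hkψ.w.trans Hom.one_def.symm
  obtain ⟨w, hw⟩ := hM _ p fun Z' s g => htw Z' g (s ≫ p) (by rw [Category.assoc, hp, MonObj.comp_one])
  -- the image of `G₀`
  have hkm := isKernel_restrict j q m hk
  obtain ⟨_, hm⟩ := GrpDim20.exists_grpObj_kernel (j ≫ q) m hkm
  haveI := hm
  haveI : IsSeparated Q.hom := AbRigid.isSeparated_of_grpObj Q
  haveI : IsClosedImmersion η[Q].left := isClosedImmersion_of_comp_eq_id Q.hom _ (Over.w η[Q])
  haveI : IsClosedImmersion m.left :=
    MorphismProperty.of_isPullback (hkm.map (Over.forget _)).flip ‹IsClosedImmersion η[Q].left›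
  have hm1 : m ≫ j ≫ q = 1 := hkm.w.trans Hom.one_def.symm
  have hN : AlgGrp.IsNormalHom m := fun T g n => by
    refine ⟨hkm.lift (g * (n ≫ m) * g⁻¹) (toUnit T) ?_, (hkm.lift_fst _ _ _).symm⟩
    rw [MonObj.mul_comp, MonObj.mul_comp, GrpObj.inv_comp, Category.assoc, hm1, MonObj.comp_one, _root_.mul_one,
      mul_inv_cancel, Hom.one_def]
  obtain ⟨R, _, r, hr, hrf, hrs, hrq, -, hkr, hRl, hRq⟩ := exists_quotient_any m hN
  haveI := hr; haveI := hrf; haveI := hrs; haveI := hrq; haveI := hRl; haveI := hRq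
  -- it is proper
  obtain ⟨e, he, -⟩ := exists_desc_hom p s₀ hks r (by
    rw [← hw, Category.assoc, hkr.w, ← Category.assoc, comp_toUnit, ← Hom.one_def])
  haveI : Surjective e.left := by
    haveI : Surjective (s₀.left ≫ e.left) := by rw [← Over.comp_left, he]; infer_instance
    exact Surjective.of_comp s₀.left e.left
  haveI : IsProper R.hom := by
    haveI : UniversallyClosed (e.left ≫ R.hom) := by rw [Over.w]; infer_instance
    haveI : UniversallyClosed R.hom := UniversallyClosed.of_comp_surjective e.left _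
    haveI : IsSeparated R.hom := AbRigid.isSeparated_of_grpObj _
    exact { }
  obtain ⟨d, hd, hdm⟩ := exists_desc_hom m r hkr (j ≫ q) hm1
  haveI := hdm
  haveI : Mono d := mono_desc m r hkr (j ≫ q) hkm d hd
  haveI : QuasiCompact d.left := AlgGrpBasic19.quasiCompact_left d
  haveI : Flat (r.left ≫ d.left) := by rw [← Over.comp_left, hd, Over.comp_left]; infer_instance
  haveI : Flat d.left := AlgSpDescent.flat_of_comp_flat_surjective r.left d.left
  haveI : IsClosedImmersion d.left := S3036.result k R Q d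
  haveI : IsLocallyNoetherian Q.left := LocallyOfFiniteType.isLocallyNoetherian Q.hom
  haveI : LocallyOfFiniteType d.left := AlgGrpBasic19.lft_left d
  haveI : LocallyOfFinitePresentation d.left := VarDim.locallyOfFinitePresentation_of_locallyNoetherian d.left
  haveI : IsOpenImmersion d.left := IsOpenImmersion.of_flat_of_mono d.left
  exact Chevalley25.isProper_of_openSubgroup Q d

/-- A homomorphism to a proper group whose kernel lies in the kernel of the Albanese homomorphism. -/
theorem exists_proper_quotient_below {G G₀ A : Over (Spec (CommRingCat.of k))} [GrpObj G] [Smooth G.hom]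
    [QuasiCompact G.hom] [GrpObj G₀] (j : G₀ ⟶ G) [IsMonHom j] [IsOpenImmersion j.left] [ConnectedSpace G₀.left]
    [GrpObj A] [IsProper A.hom] (α : G₀ ⟶ A) [IsMonHom α] :
    ∃ (Q : Over (Spec (CommRingCat.of k))) (_ : GrpObj Q) (q : G ⟶ Q) (M : Over (Spec (CommRingCat.of k))) (m : M ⟶ G₀),
      IsMonHom q ∧ IsProper Q.hom ∧ AlgGrp.IsKernel (m ≫ j) q ∧ m ≫ α = 1 := by
  obtain ⟨hjc, c, hc⟩ := exists_conj j
  haveI := hjc
  haveI : Mono j := Over.mono_of_mono_left j
  haveI : Smooth G₀.hom := by rw [← Over.w j]; infer_instance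
  haveI : QuasiCompact G₀.hom := by rw [← Over.w j]; infer_instance
  haveI : IsSeparated G.hom := AbRigid.isSeparated_of_grpObj G
  obtain ⟨M, m, hmc, hM⟩ := exists_agree (T := G₀) (X := G) ((lift (snd G₀ G) (fst G₀ G) ≫ c) ≫ α) 1
  haveI := hmc
  have hM' : ∀ (S' : Over (Spec (CommRingCat.of k))) (x : S' ⟶ G₀), (∃ w : S' ⟶ M, w ≫ m = x) ↔
      ∀ (S'' : Over (Spec (CommRingCat.of k))) (s : S'' ⟶ S') (g : S'' ⟶ G), (lift g (s ≫ x) ≫ c) ≫ α = 1 := by
    intro S' x
    refine (hM S' x).trans (forall_congr' fun S'' => forall_congr' fun s => forall_congr' fun g => ?_)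
    rw [MonObj.comp_one, ← Category.assoc, ← Category.assoc, comp_lift, lift_fst, lift_snd]
  haveI : Mono m := Over.mono_of_mono_left m
  obtain ⟨_, hmm⟩ := exists_grpObj_of_subgroup m
    (fun X x y => (hM' _ _).2 fun S'' s g => by
      rw [MonObj.comp_mul, conj_mul j c hc, MonObj.mul_comp, (hM' _ _).1 ⟨x, rfl⟩ S'' s g,
        (hM' _ _).1 ⟨y, rfl⟩ S'' s g, _root_.mul_one])
    ((hM' _ _).2 fun S'' s g => by rw [MonObj.comp_one, conj_one j c hc, MonObj.one_comp])
    (fun X x => (hM' _ _).2 fun S'' s g => by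
      have h0 := (hM' _ _).1 ⟨x, rfl⟩ S'' s g
      have h : (lift g (s ≫ (x ≫ m)⁻¹) ≫ c) * (lift g (s ≫ (x ≫ m)) ≫ c) = 1 := by
        rw [← conj_mul j c hc, ← MonObj.comp_mul, inv_mul_cancel, MonObj.comp_one, conj_one j c hc]
      rw [eq_inv_of_mul_eq_one_left h, GrpObj.inv_comp, h0, inv_one])
  haveI := hmm
  let n : M ⟶ G := m ≫ j
  haveI : IsMonHom n := inferInstanceAs (IsMonHom (m ≫ j))
  haveI : IsClosedImmersion n.left := inferInstanceAs (IsClosedImmersion (m.left ≫ j.left))
  have hn : AlgGrp.IsNormalHom n := fun T t x => by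
    obtain ⟨w, hw⟩ := (hM' T (lift t (x ≫ m) ≫ c)).2 fun S'' s g => by
      rw [← Category.assoc s, comp_lift, conj_conj j c hc]
      exact (hM' T (x ≫ m)).1 ⟨x, rfl⟩ S'' s _
    refine ⟨w, ?_⟩
    show _ = w ≫ m ≫ j
    rw [← Category.assoc w, hw, conj_spec j c hc]
    simp only [n, Category.assoc]
  obtain ⟨Q, _, q, hq, hqf, hqs, hqq, hqp, hk, hQl, hQq⟩ := exists_quotient_any n hn
  haveI := hq; haveI := hqf; haveI := hqs; haveI := hqq; haveI := hQl; haveI := hQq
  refine ⟨Q, inferInstance, q, M, m, hq, ?_, hk, ?_⟩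
  swap
  · have h := (hM' M m).1 ⟨𝟙 M, Category.id_comp _⟩ M (𝟙 M) 1
    rwa [Category.id_comp, conj_id j c hc] at h
  -- properness
  let π : Spec (CommRingCat.of (AlgebraicClosure k)) ⟶ Spec (CommRingCat.of k) :=
    Spec.map (CommRingCat.ofHom (algebraMap k (AlgebraicClosure k)))
  let P := Over.pullback π
  haveI : Surjective π := ⟨fun z => ⟨IsLocalRing.closedPoint _, Subsingleton.elim (α := PrimeSpectrum k) _ _⟩⟩
  haveI : Flat π := inferInstance
  haveI : IsMonHom (P.map j) := inferInstanceAs (IsMonHom ((Over.pullback π).map j))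
  haveI : IsMonHom (P.map α) := inferInstanceAs (IsMonHom ((Over.pullback π).map α))
  haveI : IsMonHom (P.map q) := inferInstanceAs (IsMonHom ((Over.pullback π).map q))
  haveI : IsOpenImmersion (P.map j).left :=
    MorphismProperty.of_isPullback (P := @IsOpenImmersion) (BorelFix21.isPullback_bc_map π j) ‹_›
  haveI : Mono (P.map j) := Over.mono_of_mono_left _
  haveI : Surjective (P.map q).left :=
    MorphismProperty.of_isPullback (P := @Surjective) (BorelFix21.isPullback_bc_map π q) ‹_›
  haveI : Flat (P.map q).left :=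
    MorphismProperty.of_isPullback (P := @Flat) (BorelFix21.isPullback_bc_map π q) ‹_›
  haveI : LocallyOfFiniteType (Red.bc π G).hom := inferInstanceAs (LocallyOfFiniteType (pullback.snd G.hom π))
  haveI : QuasiCompact (Red.bc π G).hom := inferInstanceAs (QuasiCompact (pullback.snd G.hom π))
  haveI : QuasiCompact (Red.bc π G₀).hom := inferInstanceAs (QuasiCompact (pullback.snd G₀.hom π))
  haveI : LocallyOfFiniteType (Red.bc π Q).hom := inferInstanceAs (LocallyOfFiniteType (pullback.snd Q.hom π))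
  haveI : QuasiCompact (Red.bc π Q).hom := inferInstanceAs (QuasiCompact (pullback.snd Q.hom π))
  haveI : IsProper (Red.bc π A).hom :=
    (MorphismProperty.pullback_snd (P := @IsProper) A.hom π ‹_› : IsProper (pullback.snd A.hom π))
  haveI : Smooth (Red.bc π G₀).hom := inferInstanceAs (Smooth (pullback.snd G₀.hom π))
  haveI : ConnectedSpace (Red.bc π G₀).left := BorelFix21.connectedSpace_bc π G₀
  obtain ⟨-, c', hc'⟩ := exists_conj (P.map j)
  have hk' : AlgGrp.IsKernel (P.map m ≫ P.map j) (P.map q) := by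
    rw [← Functor.map_comp]; exact isKernel_bc n q hk π
  have hfl : ∀ {Z : Over (Spec (CommRingCat.of (AlgebraicClosure k)))} (g : Z ⟶ P.obj G) (x : Z ⟶ P.obj G₀),
      fl π G₀ (lift g x ≫ c') = lift (fl π G g) (fl π G₀ x) ≫ c := fun g x => by
    rw [← cancel_mono j, ← fl_comp_map, conj_spec (P.map j) c' hc', fl_mul, fl_mul, fl_inv, fl_comp_map,
      conj_spec j c hc]
  have hprop : IsProper (P.obj Q).hom := by
    refine isProper_quotient_of_twists (P.map j) c' hc' (P.map α) (P.map m) (P.map q) hk' fun Z x hx => ?_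
    obtain ⟨w, hw⟩ := (hM' _ (fl π G₀ x)).2 fun S'' s g => by
      let Z' : Over (Spec (CommRingCat.of (AlgebraicClosure k))) := Over.mk (s.left ≫ Z.hom)
      let e : S'' ≅ (Over.map π).obj Z' := Over.isoMk (Iso.refl _) (by
        show 𝟙 _ ≫ (s.left ≫ Z.hom) ≫ π = S''.hom
        rw [Category.id_comp, Category.assoc]
        exact Over.w s)
      let s' : Z' ⟶ Z := Over.homMk s.left rfl
      have hs : e.hom ≫ (Over.map π).map s' = s := by
        ext; simp [e, s']
      obtain ⟨g', hg'⟩ := fl_surjective π G (e.inv ≫ g)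
      have h1 := congrArg (fl π A) (hx Z' s' g')
      rw [fl_comp_map, hfl, fl_one, fl_comp, hg'] at h1
      rw [← cancel_epi e.inv, MonObj.comp_one, ← Category.assoc, ← Category.assoc, comp_lift, ← Category.assoc e.inv,
        show e.inv ≫ s = (Over.map π).map s' by rw [← hs, Iso.inv_hom_id_assoc]]
      exact h1
    obtain ⟨w', hw'⟩ := fl_surjective π M w
    exact ⟨w', fl_injective π G₀ (by rw [fl_comp_map, hw', hw])⟩
  haveI := @FpqcDesc.descendsAlong_isProper.{u}
  exact MorphismProperty.of_pullback_snd_of_descendsAlong (P := @IsProper)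
    (Q := @Surjective ⊓ @Flat ⊓ @QuasiCompact) ⟨⟨inferInstance, inferInstance⟩, inferInstance⟩
    (f := Q.hom) (g := π) hprop

end Groth.Agent.AffPart25
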