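import Groth.Agent.Lib.AffPart25.AffHomFrob
import Groth.Agent.Lib.WeilEq.Represent
import Groth.Agent.Lib.MTRigid29.TransporterSmooth
import Groth.Agent.Lib.AlgSpDescent.SchemeSource

/-!
# The kernel of the Albanese homomorphism of the neutral component
-/

set_option autoImplicit false
set_option linter.style.haveILetI false
set_option backward.isDefEq.respectTransparency false
set_option backward.isDefEq.respectTransparency.types false
set_option maxSynthPendingDepth 3

universe u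

open CategoryTheory Limits MonoidalCategory CartesianMonoidalCategory MonObj GrpObj AlgebraicGeometry Opposite
open Groth.Agent Groth.Agent.DiagGL Groth.Agent.MTRigid29 Groth.Agent.WeilRes21

noncomputable section

namespace Groth.Agent.AffPart25

variable {k : Type u} [Field k]

/-- The locus where two morphisms agree identically in a parameter is closed. -/
theorem exists_agree {T X Y : Over (Spec (CommRingCat.of k))} [IsSeparated Y.hom] (A B : T ⊗ X ⟶ Y) :
    ∃ (Z : Over (Spec (CommRingCat.of k))) (z : Z ⟶ T), IsClosedImmersion z.left ∧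
      ∀ (S' : Over (Spec (CommRingCat.of k))) (g : S' ⟶ T), (∃ w : S' ⟶ Z, w ≫ z = g) ↔
        ∀ (S'' : Over (Spec (CommRingCat.of k))) (s : S'' ⟶ S') (x : S'' ⟶ X),
          lift (s ≫ g) x ≫ A = lift (s ≫ g) x ≫ B := by
  obtain ⟨Z, i, hi, hiff⟩ := WeilEq.exists_closedSubscheme T.hom X.hom A.left B.left Y.hom
    ((Over.w A).trans (Over.w B).symm)
  refine ⟨Over.mk (i ≫ T.hom), Over.homMk i rfl, hi, fun S' g => ⟨?_, fun h => ?_⟩⟩
  · rintro ⟨z, rfl⟩ S'' s x
    let w : S''.left ⟶ pullback T.hom X.hom := (lift (s ≫ z ≫ Over.homMk i rfl) x).left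
    have hg : WeilEq.Good T.hom X.hom A.left B.left (z.left ≫ i) :=
      (hiff (z.left ≫ i)).1 ⟨z.left, rfl⟩
    exact Over.OverMorphism.ext (hg _ s.left w (by
      show _ = s.left ≫ z.left ≫ i
      exact congrArg CommaMorphism.left (lift_fst (s ≫ z ≫ Over.homMk i rfl) x)))
  · obtain ⟨z, hz⟩ := (hiff g.left).2 fun W p w hw => by
      let S'' : Over (Spec (CommRingCat.of k)) := Over.mk (p ≫ S'.hom)
      have hw' : (w ≫ pullback.snd T.hom X.hom) ≫ X.hom = S''.hom := by
        rw [Category.assoc, ← pullback.condition, ← Category.assoc, hw, Category.assoc, Over.w g]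
        rfl
      let s : S'' ⟶ S' := Over.homMk p rfl
      let x : S'' ⟶ X := Over.homMk (w ≫ pullback.snd T.hom X.hom) hw'
      have h2 := congrArg CommaMorphism.left (h S'' s x)
      have hl : (lift (s ≫ g) x).left = w := by
        apply pullback.hom_ext
        · rw [hw]; exact congrArg CommaMorphism.left (lift_fst (s ≫ g) x)
        · exact congrArg CommaMorphism.left (lift_snd (s ≫ g) x)
      change (lift (s ≫ g) x).left ≫ A.left = (lift (s ≫ g) x).left ≫ B.left at h2
      rwa [hl] at h2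
    exact ⟨Over.homMk z (by
      show z ≫ i ≫ T.hom = S'.hom
      rw [← Category.assoc, hz, Over.w g]), Over.OverMorphism.ext hz⟩

/-- Conjugation preserves a connected open subgroup. -/
theorem exists_conj {G G₀ : Over (Spec (CommRingCat.of k))} [GrpObj G] [GrpObj G₀] [LocallyOfFiniteType G.hom]
    (j : G₀ ⟶ G) [IsMonHom j] [IsOpenImmersion j.left] [ConnectedSpace G₀.left] :
    IsClosedImmersion j.left ∧
      ∃ c : G ⊗ G₀ ⟶ G₀, c ≫ j = fst G G₀ * (snd G G₀ ≫ j) * (fst G G₀)⁻¹ := by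
  have hcl : IsClosed (Set.range j.left) := AbRigid.isClosed_range_of_isOpen j j.left.isOpenEmbedding.isOpen_range
  refine ⟨IsClosedImmersion.of_isPreimmersion j.left hcl, ?_⟩
  haveI : LocallyOfFiniteType G₀.hom := by rw [← Over.w j]; infer_instance
  haveI := AbRigid.geometricallyIrreducible_of_connected G₀
  haveI := CubeField.geometricallyConnected_of_irreducible G₀.hom
  haveI : GeometricallyConnected (fst G G₀).left :=
    inferInstanceAs (GeometricallyConnected (pullback.fst G.hom G₀.hom))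
  let c₁ : G ⊗ G₀ ⟶ G := fst G G₀ * (snd G G₀ ≫ j) * (fst G G₀)⁻¹
  have hsub : Set.range c₁.left ⊆ Set.range j.left := by
    rintro _ ⟨z, rfl⟩
    let s : G ⟶ G ⊗ G₀ := lift (𝟙 G) (toUnit G ≫ η[G₀])
    have hs : s ≫ c₁ = 1 := by
      simp only [c₁, s, MonObj.comp_mul, GrpObj.comp_inv, lift_fst, lift_snd_assoc, Category.assoc]
      rw [IsMonHom.one_hom j, ← Hom.one_def, _root_.mul_one, mul_inv_cancel]
    let g := (fst G G₀).left z
    have hsg : (fst G G₀).left (s.left g) = g := by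
      rw [← Scheme.Hom.comp_apply, ← Over.comp_left, lift_fst, Over.id_left]; rfl
    have hconn := ((fst G G₀).left.isConnected_preimage_singleton g).isPreconnected.image c₁.left
      c₁.left.continuous.continuousOn
    refine hconn.subset_isClopen ⟨hcl, j.left.isOpenEmbedding.isOpen_range⟩ ?_ ⟨z, rfl, rfl⟩
    refine ⟨c₁.left (s.left g), ⟨s.left g, hsg, rfl⟩, η[G₀].left (G.hom g), ?_⟩
    show j.left (η[G₀].left (G.hom g)) = c₁.left (s.left g)
    rw [← Scheme.Hom.comp_apply η[G₀].left j.left, ← Scheme.Hom.comp_apply s.left c₁.left, ← Over.comp_left,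
      ← Over.comp_left, hs, IsMonHom.one_hom j, Hom.one_def, Over.comp_left, Scheme.Hom.comp_apply]
    exact congrArg _ (Subsingleton.elim (α := PrimeSpectrum k) _ _)
  let l : (G ⊗ G₀).left ⟶ G₀.left := IsOpenImmersion.lift j.left c₁.left hsub
  exact ⟨Over.homMk l (by rw [← Over.w j, IsOpenImmersion.lift_fac_assoc, Over.w c₁]),
    Over.OverMorphism.ext (IsOpenImmersion.lift_fac _ _ _)⟩

section Conj

variable {G G₀ : Over (Spec (CommRingCat.of k))} [GrpObj G] [GrpObj G₀] (j : G₀ ⟶ G) [IsMonHom j] [Mono j]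
  (c : G ⊗ G₀ ⟶ G₀) (hc : c ≫ j = fst G G₀ * (snd G G₀ ≫ j) * (fst G G₀)⁻¹)

include hc in
theorem conj_spec {T : Over (Spec (CommRingCat.of k))} (g : T ⟶ G) (x : T ⟶ G₀) :
    (lift g x ≫ c) ≫ j = g * (x ≫ j) * g⁻¹ := by
  rw [Category.assoc, hc]
  simp only [MonObj.comp_mul, GrpObj.comp_inv, lift_fst, lift_snd_assoc]

include hc in
theorem conj_mul {T : Over (Spec (CommRingCat.of k))} (g : T ⟶ G) (x y : T ⟶ G₀) :
    lift g (x * y) ≫ c = (lift g x ≫ c) * (lift g y ≫ c) := by
  rw [← cancel_mono j, MonObj.mul_comp, conj_spec j c hc, conj_spec j c hc, conj_spec j c hc, MonObj.mul_comp]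
  group

include hc in
theorem conj_one {T : Over (Spec (CommRingCat.of k))} (g : T ⟶ G) : lift g (1 : T ⟶ G₀) ≫ c = 1 := by
  rw [← cancel_mono j, conj_spec j c hc, MonObj.one_comp, _root_.mul_one, mul_inv_cancel]

include hc in
theorem conj_conj {T : Over (Spec (CommRingCat.of k))} (g h : T ⟶ G) (x : T ⟶ G₀) :
    lift g (lift h x ≫ c) ≫ c = lift (g * h) x ≫ c := by
  rw [← cancel_mono j, conj_spec j c hc, conj_spec j c hc, conj_spec j c hc]
  group

include hc in
theorem conj_inner {T : Over (Spec (CommRingCat.of k))} (y x : T ⟶ G₀) :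
    lift (y ≫ j) x ≫ c = y * x * y⁻¹ := by
  rw [← cancel_mono j, conj_spec j c hc, MonObj.mul_comp, MonObj.mul_comp, GrpObj.inv_comp]

include hc in
theorem conj_id {T : Over (Spec (CommRingCat.of k))} (x : T ⟶ G₀) : lift (1 : T ⟶ G) x ≫ c = x := by
  rw [← cancel_mono j, conj_spec j c hc, _root_.one_mul, inv_one, _root_.mul_one]

end Conj

/-- The quotient of a group by the kernel of a homomorphism to a proper group is proper. -/
theorem exists_image_proper {G Q N : Over (Spec (CommRingCat.of k))} [GrpObj G] [GrpObj Q] [LocallyOfFiniteType G.hom]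
    [QuasiCompact G.hom] [IsProper Q.hom] (i : N ⟶ G) (q : G ⟶ Q) [IsMonHom q] (hk : AlgGrp.IsKernel i q) :
    ∃ (R : Over (Spec (CommRingCat.of k))) (_ : GrpObj R) (r : G ⟶ R), IsMonHom r ∧ Flat r.left ∧ Surjective r.left ∧
      QuasiCompact r.left ∧ LocallyOfFinitePresentation r.left ∧ AlgGrp.IsKernel i r ∧ IsProper R.hom ∧
      LocallyOfFiniteType R.hom ∧ QuasiCompact R.hom ∧ ∃ d : R ⟶ Q, IsMonHom d ∧ r ≫ d = q := by
  obtain ⟨_, hi⟩ := GrpDim20.exists_grpObj_kernel q i hk
  haveI := hi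
  haveI : IsClosedImmersion η[Q].left := isClosedImmersion_of_comp_eq_id Q.hom _ (Over.w η[Q])
  haveI : IsClosedImmersion i.left :=
    MorphismProperty.of_isPullback (hk.map (Over.forget _)).flip ‹IsClosedImmersion η[Q].left›
  have hi1 : i ≫ q = 1 := hk.w.trans Hom.one_def.symm
  have hN : AlgGrp.IsNormalHom i := fun T g n => by
    refine ⟨hk.lift (g * (n ≫ i) * g⁻¹) (toUnit T) ?_, (hk.lift_fst _ _ _).symm⟩
    rw [MonObj.mul_comp, MonObj.mul_comp, GrpObj.inv_comp, Category.assoc, hi1, MonObj.comp_one, _root_.mul_one,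
      mul_inv_cancel, Hom.one_def]
  obtain ⟨R, _, r, hr, hrf, hrs, hrc, hrp, hkr, hRl, hRq⟩ := exists_quotient_any i hN
  haveI := hr; haveI := hrf; haveI := hrs; haveI := hrc; haveI := hRl; haveI := hRq
  obtain ⟨d, hd, hdm⟩ := exists_desc_hom i r hkr q hi1
  haveI := hdm
  haveI : Mono d := mono_desc i r hkr q hk d hd
  haveI : QuasiCompact d.left := AlgGrpBasic19.quasiCompact_left d
  haveI : IsClosedImmersion d.left := S3036.result k R Q d
  haveI : IsProper R.hom := by rw [← Over.w d]; infer_instance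
  exact ⟨R, inferInstance, r, hr, hrf, hrs, hrc, hrp, hkr, inferInstance, hRl, hRq, d, hdm, hd⟩

/-- A kernel with a universal property for abelian varieties kills homomorphisms to proper groups. -/
theorem albanese_kills {G₀ A N : Over (Spec (CommRingCat.of k))} [GrpObj G₀] [Smooth G₀.hom] [QuasiCompact G₀.hom]
    [ConnectedSpace G₀.left] [GrpObj A] (α : G₀ ⟶ A) [IsMonHom α]
    (hα : ∀ (B : Over (Spec (CommRingCat.of k))) [GrpObj B] [IsProper B.hom] [Smooth B.hom] [ConnectedSpace ↥B.left]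
      (f : G₀ ⟶ B), η[G₀] ≫ f = η[B] → ∃! g : A ⟶ B, α ≫ g = f)
    (i : N ⟶ G₀) (hN : AlgGrp.IsKernel i α)
    {Q : Over (Spec (CommRingCat.of k))} [GrpObj Q] [IsProper Q.hom] (h : G₀ ⟶ Q) [IsMonHom h] : i ≫ h = 1 := by
  have hk : AlgGrp.IsKernel (pullback.fst h η[Q]) h := by
    show IsPullback (pullback.fst h η[Q]) (toUnit _) h η[Q]
    rw [toUnit_unique (toUnit _) (pullback.snd h η[Q])]
    exact IsPullback.of_hasPullback h η[Q]
  obtain ⟨B, _, r, hr, hrf, hrs, hrc, hrp, -, hB, hBl, hBq, d, hdm, hd⟩ := exists_image_proper _ h hk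
  haveI := hr; haveI := hrf; haveI := hrs; haveI := hrc; haveI := hrp; haveI := hB; haveI := hdm
  haveI : Smooth B.hom := AlgSpDescent.smooth_of_fppf_comp r.left B.hom hrf hrp hrs (by rw [Over.w]; infer_instance)
  haveI : ConnectedSpace B.left := r.left.surjective.connectedSpace r.left.continuous
  obtain ⟨g, hg, -⟩ := hα B r (IsMonHom.one_hom r)
  have hg1 : η[A] ≫ g = η[B] := by rw [← IsMonHom.one_hom α, Category.assoc, hg, IsMonHom.one_hom r]
  rw [← hd, ← hg, ← Category.assoc, ← Category.assoc, hN.w, Category.assoc (toUnit N), hg1, Category.assoc,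
    IsMonHom.one_hom d, Hom.one_def]

/-- Finitely many twists cut out the common kernel of all twists. -/
theorem exists_twists [IsAlgClosed k] {G G₀ A : Over (Spec (CommRingCat.of k))} [GrpObj G] [GrpObj G₀] [GrpObj A]
    [LocallyOfFiniteType G.hom] [QuasiCompact G.hom] [IsProper A.hom]
    (j : G₀ ⟶ G) [IsMonHom j] [Mono j] [IsOpenImmersion j.left]
    (c : G ⊗ G₀ ⟶ G₀) (hc : c ≫ j = fst G G₀ * (snd G G₀ ≫ j) * (fst G G₀)⁻¹) (α : G₀ ⟶ A) [IsMonHom α] :
    ∃ (A' : Over (Spec (CommRingCat.of k))) (_ : GrpObj A') (ψ : G₀ ⟶ A'), IsMonHom ψ ∧ IsProper A'.hom ∧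
      ∀ (Z : Over (Spec (CommRingCat.of k))) (g : Z ⟶ G) (x : Z ⟶ G₀), x ≫ ψ = 1 → (lift g x ≫ c) ≫ α = 1 := by
  classical
  have hfin : ∀ t : Finset (specOver k k ⟶ G),
      ∃ (A' : Over (Spec (CommRingCat.of k))) (_ : GrpObj A') (ψ : G₀ ⟶ A'), IsMonHom ψ ∧ IsProper A'.hom ∧
        ∀ (Z : Over (Spec (CommRingCat.of k))) (x : Z ⟶ G₀), x ≫ ψ = 1 → ∀ h ∈ t,
          (lift (Chevalley25.cst Z h) x ≫ c) ≫ α = 1 := by
    intro t
    induction t using Finset.induction with
    | empty =>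
      haveI : IsProper (𝟙_ (Over (Spec (CommRingCat.of k)))).hom :=
        inferInstanceAs (IsProper (𝟙 (Spec (CommRingCat.of k))))
      exact ⟨_, inferInstance, toUnit G₀, inferInstance, inferInstance, fun Z x _ h hh => absurd hh (Finset.notMem_empty h)⟩
    | @insert a t ha ih =>
      obtain ⟨A', _, ψ, hψ, hA', hsp⟩ := ih
      haveI := hψ; haveI := hA'
      let β : G₀ ⟶ A := (lift (Chevalley25.cst G₀ a) (𝟙 G₀) ≫ c) ≫ α
      have hβ : ∀ (Z : Over (Spec (CommRingCat.of k))) (x : Z ⟶ G₀),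
          x ≫ β = (lift (Chevalley25.cst Z a) x ≫ c) ≫ α := fun Z x => by
        simp only [β, ← Category.assoc, comp_lift, Category.comp_id, Chevalley25.comp_cst]
      haveI : IsMonHom β := TorsorSch25.isMonHom_of_points β fun T x y => by
        rw [hβ, hβ, hβ, conj_mul j c hc, MonObj.mul_comp]
      haveI : IsProper (A' ⊗ A).hom := by
        show IsProper (pullback.fst A'.hom A.hom ≫ A'.hom)
        infer_instance
      refine ⟨A' ⊗ A, inferInstance, lift ψ β, inferInstance, inferInstance, fun Z x hx h hh => ?_⟩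
      have h1 : x ≫ ψ = 1 := by rw [← lift_fst ψ β, ← Category.assoc, hx, MonObj.one_comp]
      have h2 : x ≫ β = 1 := by rw [← lift_snd ψ β, ← Category.assoc, hx, MonObj.one_comp]
      rcases Finset.mem_insert.1 hh with rfl | hh
      · rwa [hβ] at h2
      · exact hsp Z x h1 h hh
  haveI : CompactSpace G.left := (quasiCompact_iff_compactSpace G.hom).1 inferInstance
  haveI : ∀ h : specOver k k ⟶ G, IsOpenImmersion (j ≫ Chevalley25.tau h).left := fun h => by
    rw [Over.comp_left]; infer_instance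
  obtain ⟨t, ht⟩ := isCompact_univ.elim_finite_subcover
    (fun h : specOver k k ⟶ G => Set.range (j ≫ Chevalley25.tau h).left)
    (fun h => (j ≫ Chevalley25.tau h).left.isOpenEmbedding.isOpen_range)
    (fun x _ => Set.mem_iUnion.2 (Chevalley25.exists_translate G j x))
  obtain ⟨A', _, ψ, hψ, hA', hsp⟩ := hfin t
  refine ⟨A', inferInstance, ψ, hψ, hA', fun Z g x hx => Over.OverMorphism.ext (Scheme.hom_ext_of_forall _ _ fun z => ?_)⟩
  obtain ⟨h, hht, hz⟩ := Set.mem_iUnion₂.1 (ht (Set.mem_univ (g.left z)))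
  let U : Z.left.Opens := g.left ⁻¹ᵁ (j ≫ Chevalley25.tau h).left.opensRange
  refine ⟨U, hz, ?_⟩
  let W : Over (Spec (CommRingCat.of k)) := Over.mk (U.ι ≫ Z.hom)
  let w : W ⟶ Z := Over.homMk U.ι rfl
  have hr : Set.range (w ≫ g).left ⊆ Set.range (j ≫ Chevalley25.tau h).left := by
    rintro _ ⟨v, rfl⟩
    exact v.2
  let y : W ⟶ G₀ := Over.homMk (IsOpenImmersion.lift (j ≫ Chevalley25.tau h).left (w ≫ g).left hr) (by
    rw [← Over.w (j ≫ Chevalley25.tau h), IsOpenImmersion.lift_fac_assoc, Over.w (w ≫ g)])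
  have hy : y ≫ j ≫ Chevalley25.tau h = w ≫ g := Over.OverMorphism.ext (IsOpenImmersion.lift_fac _ _ _)
  rw [← Category.assoc, Chevalley25.comp_tau] at hy
  have key : w ≫ (lift g x ≫ c) ≫ α = w ≫ 1 := by
    have hwx : (w ≫ x) ≫ ψ = 1 := by rw [Category.assoc, hx, MonObj.comp_one]
    let β : G₀ ⟶ A := (lift (Chevalley25.cst G₀ h) (𝟙 G₀) ≫ c) ≫ α
    have hβ : ∀ (Z : Over (Spec (CommRingCat.of k))) (x : Z ⟶ G₀),
        x ≫ β = (lift (Chevalley25.cst Z h) x ≫ c) ≫ α := fun Z x => by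
      simp only [β, ← Category.assoc, comp_lift, Category.comp_id, Chevalley25.comp_cst]
    have hm : ∀ {T : Over (Spec (CommRingCat.of k))} (a b : T ⟶ G₀), (a * b) ≫ β = (a ≫ β) * (b ≫ β) := fun a b => by
      rw [hβ, hβ, hβ, conj_mul j c hc, MonObj.mul_comp]
    haveI : IsMonHom β := TorsorSch25.isMonHom_of_points β fun T a b => hm a b
    rw [MonObj.comp_one, ← Category.assoc, ← Category.assoc, comp_lift, ← hy, ← conj_conj j c hc, conj_inner j c hc,
      ← hβ, MonObj.mul_comp, MonObj.mul_comp, GrpObj.inv_comp, hβ _ (w ≫ x), hsp W (w ≫ x) hwx h hht,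
      _root_.mul_one, mul_inv_cancel]
  have h2 := congrArg CommaMorphism.left key
  exact h2

end Groth.Agent.AffPart25
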