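import Groth.Agent.Lib.AffPart25.Smallest
import Groth.Agent.Lib.RatMapAV.Hom
import Groth.Agent.Lib.AlgSpDescent.FppfComp

/-!
# The Albanese quotient of a smooth connected group over a field
-/

set_option autoImplicit false
set_option linter.style.haveILetI false
set_option backward.isDefEq.respectTransparency false
set_option backward.isDefEq.respectTransparency.types false

universe u

open CategoryTheory CategoryTheory.Limits MonoidalCategory CartesianMonoidalCategory MonObj AlgebraicGeometry

noncomputable section

namespace Groth.Agent.AffPart25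

variable {k : Type u} [Field k]

/-- A smooth connected group has an Albanese quotient with connected kernel. -/
theorem exists_albanese (G : Over (Spec (CommRingCat.of k))) [GrpObj G] [Smooth G.hom] [QuasiCompact G.hom]
    [ConnectedSpace G.left] :
    ∃ (N : Over (Spec (CommRingCat.of k))) (_ : GrpObj N) (i : N ⟶ G) (A : Over (Spec (CommRingCat.of k)))
      (_ : GrpObj A) (α : G ⟶ A), IsMonHom i ∧ IsClosedImmersion i.left ∧ AlgGrp.IsNormalHom i ∧
      ConnectedSpace ↥N.left ∧ IsProper A.hom ∧ Smooth A.hom ∧ ConnectedSpace ↥A.left ∧ IsMonHom α ∧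
      Surjective α.left ∧ Flat α.left ∧ AlgGrp.IsKernel i α ∧
      (∀ (B : Over (Spec (CommRingCat.of k))) [GrpObj B] [IsProper B.hom] (f : G ⟶ B),
        η[G] ≫ f = η[B] → ∃! g : A ⟶ B, α ≫ g = f) ∧
      ∀ (B : Over (Spec (CommRingCat.of k))) [GrpObj B] [IsProper B.hom] (q : G ⟶ B) [IsMonHom q], i ≫ q = 1 := by
  obtain ⟨N, _, i, A, _, α, hi, hic, hin, hNc, hα, hαs, hαf, hk, hA, hsmall⟩ := exists_smallest G
  haveI := hi; haveI := hic; haveI := hα; haveI := hαs; haveI := hαf; haveI := hA
  haveI : QuasiCompact α.left := AlgGrpBasic19.quasiCompact_left α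
  haveI : IsLocallyNoetherian A.left := LocallyOfFiniteType.isLocallyNoetherian A.hom
  haveI : LocallyOfFiniteType α.left := AlgGrpBasic19.lft_left α
  have hp := VarDim.locallyOfFinitePresentation_of_locallyNoetherian α.left
  haveI : Smooth A.hom := AlgSpDescent.smooth_of_fppf_comp α.left A.hom hαf hp hαs (by rw [Over.w]; infer_instance)
  haveI : ConnectedSpace A.left := α.left.surjective.connectedSpace α.left.continuous
  refine ⟨N, inferInstance, i, A, inferInstance, α, hi, hic, hin, hNc, hA, inferInstance, inferInstance, hα, hαs, hαf,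
    hk, fun B _ _ f hf => ?_, hsmall⟩
  haveI : IsSeparated G.hom := AbRigid.isSeparated_of_grpObj G
  haveI := AbRigid.geometricallyReduced_of_smooth G.hom
  haveI : GeometricallyIntegral G.hom := AbRigid.geometricallyIntegral_of_connected G
  haveI : IsMonHom f := RatMapAV.isMonHom_of_smooth G B f hf
  obtain ⟨g, hg, -⟩ := exists_desc_hom i α hk f (hsmall B f)
  haveI := AlgGrpBasic19.epi_of_cover α
  exact ⟨g, hg, fun g' hg' => (cancel_epi α).1 (hg'.trans hg.symm)⟩

end Groth.Agent.AffPart25
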