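import Groth.Agent.Lib.AffPart25.Extension
import Groth.Agent.Lib.BorelFix21.Parabolic
import Groth.Agent.Lib.QuotField20.Main
import Groth.Agent.Lib.AbRigid.KernelPair
import Mathlib.AlgebraicGeometry.Morphisms.FlatDescent

/-!
# Proper homogeneous spaces of a group with affine normal subgroup and proper quotient
-/

set_option autoImplicit false
set_option linter.style.haveILetI false
set_option backward.isDefEq.respectTransparency false
set_option backward.isDefEq.respectTransparency.types false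
set_option maxSynthPendingDepth 3

universe u

open CategoryTheory CategoryTheory.Limits MonoidalCategory CartesianMonoidalCategory MonObj GrpObj AlgebraicGeometry

noncomputable section

namespace Groth.Agent.AffPart25

variable {k : Type u} [Field k]

/-- Morphisms with the same image in a quotient differ by the subgroup. -/
theorem quotient_comp_eq_iff {G H X : Over (Spec (CommRingCat.of k))} [GrpObj G] [GrpObj H] {i : H ⟶ G}
    {a : AlgGrp.Action G X} {o : 𝟙_ (Over (Spec (CommRingCat.of k))) ⟶ X} (hX : AGF.IsQuotient i X a o)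
    {T : Over (Spec (CommRingCat.of k))} (g g' : T ⟶ G) :
    g ≫ a.orbitMap o = g' ≫ a.orbitMap o ↔ ∃ h : T ⟶ H, g' = g * (h ≫ i) := by
  obtain ⟨_, _, _, hpb⟩ := hX
  constructor
  · intro e
    obtain ⟨t, ht1, ht2⟩ := hpb.exists_lift g g' e
    exact ⟨t ≫ snd G H, by rw [← ht2, InvRing21.whisker_mul, MonObj.comp_mul, ht1, Category.assoc]⟩
  · rintro ⟨h, rfl⟩
    have := congrArg (lift g h ≫ ·) hpb.w
    simp only [← Category.assoc, lift_fst, InvRing21.whisker_mul, MonObj.comp_mul, lift_snd] at this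
    exact this

/-- The quotient by the right translations of a closed subgroup. -/
theorem exists_right_quotient {G F : Over (Spec (CommRingCat.of k))} [GrpObj G] [GrpObj F] [LocallyOfFiniteType G.hom]
    [QuasiCompact G.hom] (u : F ⟶ G) [IsMonHom u] [IsClosedImmersion u.left] :
    ∃ (Q : Over (Spec (CommRingCat.of k))) (p : G ⟶ Q), Flat p.left ∧ Surjective p.left ∧ QuasiCompact p.left ∧
      LocallyOfFiniteType Q.hom ∧ QuasiCompact Q.hom ∧ IsSeparated Q.hom ∧
      ∀ (T : Over (Spec (CommRingCat.of k))) (g g' : T ⟶ G), g ≫ p = g' ≫ p ↔ ∃ h : T ⟶ F, g' = g * (h ≫ u) := by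
  haveI : IsSeparated G.hom := AbRigid.isSeparated_of_grpObj G
  haveI : Mono u := Over.mono_of_mono_left u
  haveI : LocallyOfFiniteType F.hom := by rw [← Over.w u]; infer_instance
  obtain ⟨Q, p, hp, hpb, hQ, hQs⟩ := QuotField20.exists_quotient_field u
  haveI := hQs inferInstance
  haveI := hp.surj; haveI := hp.flat; haveI := hQ
  haveI : CompactSpace G.left := (quasiCompact_iff_compactSpace G.hom).1 inferInstance
  haveI : CompactSpace Q.left := ⟨by
    rw [← p.left.surjective.range_eq]
    exact isCompact_range p.left.continuous⟩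
  haveI : QuasiCompact Q.hom := (quasiCompact_iff_compactSpace Q.hom).2 inferInstance
  let v : G ⟶ G := (𝟙 G)⁻¹
  haveI : IsIso v := ⟨v, by simp [v, GrpObj.comp_inv], by simp [v, GrpObj.comp_inv]⟩
  haveI : IsIso v.left := inferInstanceAs (IsIso ((Over.forget _).map v))
  haveI : Flat (v ≫ p).left := by rw [Over.comp_left]; infer_instance
  haveI : Surjective (v ≫ p).left := by rw [Over.comp_left]; infer_instance
  haveI : QuasiCompact (v ≫ p).left := by
    haveI : QuasiCompact ((v ≫ p).left ≫ Q.hom) := by rw [Over.w]; infer_instance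
    exact QuasiCompact.of_comp _ Q.hom
  refine ⟨Q, v ≫ p, inferInstance, inferInstance, inferInstance, inferInstance, inferInstance, inferInstance,
    fun T g g' => ?_⟩
  have hv : ∀ x : T ⟶ G, x ≫ v ≫ p = x⁻¹ ≫ p := fun x => by
    rw [← Category.assoc, GrpObj.comp_inv, Category.comp_id]
  rw [hv, hv, QuotField20.quotient_kernel u hpb]
  constructor
  · rintro ⟨f, hf⟩
    exact ⟨f⁻¹, by rw [GrpObj.inv_comp, ← _root_.inv_inv g', ← hf, _root_.mul_inv_rev, _root_.inv_inv]⟩
  · rintro ⟨h, rfl⟩
    exact ⟨h⁻¹, by rw [GrpObj.inv_comp, _root_.mul_inv_rev]⟩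

variable [IsAlgClosed k]

/-- Translations by a subgroup of the affine part containing a Borel subgroup give proper quotients. -/
theorem isProper_of_borel_le {G N A H B X : Over (Spec (CommRingCat.of k))} [GrpObj G] [GrpObj N] [GrpObj A] [GrpObj H]
    [GrpObj B] [Smooth G.hom] [QuasiCompact G.hom] [Smooth N.hom] [ConnectedSpace N.left] [IsAffine N.left]
    [IsProper A.hom] (i : N ⟶ G) [IsMonHom i] [IsClosedImmersion i.left] (α : G ⟶ A) [IsMonHom α] [Flat α.left]
    [Surjective α.left] (hk : AlgGrp.IsKernel i α) (h : H ⟶ G) [IsMonHom h] [IsClosedImmersion h.left]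
    (a : AlgGrp.Action G X) (o : 𝟙_ (Over (Spec (CommRingCat.of k))) ⟶ X) (hX : AGF.IsQuotient h X a o)
    (b : B ⟶ N) (hb : Red.IsBorelOver k b) (f : B ⟶ H) (hf : f ≫ h = b ≫ i) : IsProper X.hom := by
  obtain ⟨hbm, hbc, hBs, hBc, -, -⟩ := id hb
  haveI := hbm; haveI := hbc; haveI := hBs; haveI := hBc
  haveI : IsMonHom (b ≫ i) := inferInstance
  haveI : IsClosedImmersion (b ≫ i).left := by rw [Over.comp_left]; infer_instance
  haveI : LocallyOfFiniteType G.hom := inferInstance
  obtain ⟨Y, p, hpf, hps, hpq, hYl, hYq, hYs, hYr⟩ := exists_right_quotient (b ≫ i)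
  haveI := hpf; haveI := hps; haveI := hpq; haveI := hYl; haveI := hYq; haveI := hYs
  haveI := AlgGrpBasic19.epi_of_cover p
  have hi1 : i ≫ α = 1 := hk.w.trans Hom.one_def.symm
  -- the map to the proper quotient
  obtain ⟨β, hβ⟩ := AlgGrpBasic19.exists_desc p α fun T g g' e => by
    obtain ⟨x, rfl⟩ := (hYr T g g').1 e
    rw [MonObj.mul_comp, Category.assoc x, Category.assoc b, hi1, MonObj.comp_one, MonObj.comp_one, _root_.mul_one]
  -- the fibre
  obtain ⟨W, c, w, hW, hWs, hWq⟩ := GrassAct21.exists_quotient (G := N) b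
  haveI := hWs; haveI := hWq; haveI := hW.1
  haveI : IsProper W.hom := BorelFix21.isProper_of_borel_le (iP := b) hW (𝟙 B) (by
    rw [Category.id_comp]; exact hb)
  let q := c.orbitMap w
  haveI : Flat q.left := hW.2.1
  haveI : Surjective q.left := hW.2.2.1
  haveI : QuasiCompact q.left := InvRing21.IsQuotient.quasiCompact hW
  haveI : Flat (G ◁ q).left :=
    MorphismProperty.of_isPullback ((AbRigid.isPullback_whiskerLeft q G).map (Over.forget _)) ‹Flat q.left›
  haveI : Surjective (G ◁ q).left :=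
    MorphismProperty.of_isPullback ((AbRigid.isPullback_whiskerLeft q G).map (Over.forget _)) ‹Surjective q.left›
  haveI : QuasiCompact (G ◁ q).left :=
    MorphismProperty.of_isPullback ((AbRigid.isPullback_whiskerLeft q G).map (Over.forget _)) ‹QuasiCompact q.left›
  haveI := AlgGrpBasic19.epi_of_cover (G ◁ q)
  let u₀ : G ⊗ N ⟶ G := fst G N * (snd G N ≫ i)
  obtain ⟨u, hu⟩ := AlgGrpBasic19.exists_desc (G ◁ q) (u₀ ≫ p) fun T x y e => by
    rw [← Category.assoc, ← Category.assoc]
    have e1 : x ≫ fst G N = y ≫ fst G N := by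
      have := congrArg (· ≫ fst G W) e
      simpa using this
    have e2 : (x ≫ snd G N) ≫ q = (y ≫ snd G N) ≫ q := by
      have := congrArg (· ≫ snd G W) e
      simpa using this
    obtain ⟨z, hz⟩ := (InvRing21.IsQuotient.comp_eq_iff hW _ _).1 e2
    refine (hYr T _ _).2 ⟨z, ?_⟩
    simp only [u₀, MonObj.comp_mul, ← Category.assoc, hz, MonObj.mul_comp, e1, _root_.mul_assoc]
  have huβ : u ≫ β = fst G W ≫ α := by
    rw [← cancel_epi (G ◁ q), ← Category.assoc, hu, Category.assoc, hβ, whiskerLeft_fst_assoc]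
    simp only [u₀, MonObj.mul_comp, Category.assoc, hi1, MonObj.comp_one, _root_.mul_one]
  let P := pullback β α
  let τ : G ⊗ W ⟶ P := pullback.lift u (fst G W) huβ
  let ρ : G ⊗ N ⟶ P := (G ◁ q) ≫ τ
  have hρ : IsPullback u₀ ρ p (pullback.fst β α) := by
    refine IsPullback.of_bot (v₂₁ := pullback.snd β α) (v₂₂ := β) (h₃₁ := α) ?_ ?_
      (IsPullback.of_hasPullback β α)
    · rw [hβ, show ρ ≫ pullback.snd β α = fst G N by simp [ρ, τ]]
      exact (AbRigid.isPullback_kernelPair α i hk).flip
    · simp [ρ, τ, hu]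
  haveI : Surjective ρ.left :=
    MorphismProperty.of_isPullback (P := @Surjective) (hρ.map (Over.forget _)) ‹Surjective p.left›
  haveI : Surjective τ.left := by
    haveI : Surjective ((G ◁ q).left ≫ τ.left) := by rw [← Over.comp_left]; exact ‹Surjective ρ.left›
    exact Surjective.of_comp (G ◁ q).left τ.left
  haveI : UniversallyClosed (pullback.snd β α).left := by
    haveI : UniversallyClosed (τ.left ≫ (pullback.snd β α).left) := by
      rw [← Over.comp_left, show τ ≫ pullback.snd β α = fst G W from pullback.lift_snd _ _ _]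
      show UniversallyClosed (pullback.fst G.hom W.hom)
      infer_instance
    exact UniversallyClosed.of_comp_surjective τ.left _
  haveI : QuasiCompact α.left := AlgGrpBasic19.quasiCompact_left α
  haveI : UniversallyClosed β.left :=
    MorphismProperty.of_isPullback_of_descendsAlong (P := @UniversallyClosed)
      (Q := @Surjective ⊓ @Flat ⊓ @QuasiCompact) ((IsPullback.of_hasPullback β α).map (Over.forget _)).flip
      ⟨⟨(‹_› : Surjective α.left), (‹_› : Flat α.left)⟩, (‹_› : QuasiCompact α.left)⟩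
      (‹_› : UniversallyClosed (pullback.snd β α).left)
  haveI : UniversallyClosed Y.hom := by rw [← Over.w β]; infer_instance
  haveI : IsProper Y.hom := { }
  -- compare with the given quotient
  obtain ⟨Z, r, hrf, hrs, hrq, hZl, hZq, hZs, hZr⟩ := exists_right_quotient h
  haveI := hrf; haveI := hrs; haveI := hrq; haveI := hZl; haveI := hZq; haveI := hZs
  haveI := AlgGrpBasic19.epi_of_cover r
  obtain ⟨hXl, hof, hos, -⟩ := id hX
  haveI := hXl; haveI := hof; haveI := hos
  haveI : QuasiCompact (a.orbitMap o).left := by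
    haveI : IsLocallyNoetherian X.left := LocallyOfFiniteType.isLocallyNoetherian X.hom
    haveI : QuasiCompact ((a.orbitMap o).left ≫ X.hom) := by rw [Over.w]; infer_instance
    exact QuasiCompact.of_comp (a.orbitMap o).left X.hom
  haveI := AlgGrpBasic19.epi_of_cover (a.orbitMap o)
  obtain ⟨e, he⟩ := AlgGrpBasic19.exists_desc r (a.orbitMap o) fun T g g' E =>
    (quotient_comp_eq_iff hX g g').2 ((hZr T g g').1 E)
  obtain ⟨e', he'⟩ := AlgGrpBasic19.exists_desc (a.orbitMap o) r fun T g g' E =>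
    (hZr T g g').2 ((quotient_comp_eq_iff hX g g').1 E)
  haveI : IsIso e := ⟨e', by rw [← cancel_epi r, ← Category.assoc, he, he', Category.comp_id],
    by rw [← cancel_epi (a.orbitMap o), ← Category.assoc, he', he, Category.comp_id]⟩
  haveI : IsIso e.left := inferInstanceAs (IsIso ((Over.forget _).map e))
  haveI : IsSeparated X.hom := by
    haveI : IsIso e' := ⟨e, by rw [← cancel_epi (a.orbitMap o), ← Category.assoc, he', he, Category.comp_id],
      by rw [← cancel_epi r, ← Category.assoc, he, he', Category.comp_id]⟩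
    haveI : IsIso e'.left := inferInstanceAs (IsIso ((Over.forget _).map e'))
    rw [← Over.w e']; infer_instance
  obtain ⟨d, hd⟩ := AlgGrpBasic19.exists_desc p (a.orbitMap o) fun T g g' E => by
    obtain ⟨x, rfl⟩ := (hYr T g g').1 E
    exact (quotient_comp_eq_iff hX g _).2 ⟨x ≫ f, by rw [Category.assoc, hf]⟩
  haveI : Surjective d.left := by
    haveI : Surjective (p.left ≫ d.left) := by rw [← Over.comp_left, hd]; infer_instance
    exact Surjective.of_comp p.left d.left
  haveI : UniversallyClosed (d.left ≫ X.hom) := by rw [Over.w]; infer_instance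
  haveI : UniversallyClosed X.hom := UniversallyClosed.of_comp_surjective d.left X.hom
  exact { }

/-- A subgroup with proper quotient contains a Borel subgroup of a normal affine subgroup. -/
theorem exists_borel_le {G N H X : Over (Spec (CommRingCat.of k))} [GrpObj G] [GrpObj N] [GrpObj H] [Smooth G.hom]
    [QuasiCompact G.hom] [Smooth N.hom] [ConnectedSpace N.left] [IsAffine N.left] (i : N ⟶ G) [IsMonHom i]
    [IsClosedImmersion i.left] (hN : AlgGrp.IsNormalHom i) (h : H ⟶ G) [IsMonHom h] [IsClosedImmersion h.left]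
    (a : AlgGrp.Action G X) (o : 𝟙_ (Over (Spec (CommRingCat.of k))) ⟶ X) (hX : AGF.IsQuotient h X a o)
    [IsProper X.hom] :
    ∃ (B : Over (Spec (CommRingCat.of k))) (_ : GrpObj B) (b : B ⟶ N) (f : B ⟶ H),
      Red.IsBorelOver k b ∧ f ≫ h = b ≫ i := by
  obtain ⟨B, _, b, hb, -⟩ := BorelFix21.exists_isBorelOver N
  obtain ⟨hbm, hbc, hBs, hBc, hsol, hmax⟩ := id hb
  haveI := hbm; haveI := hbc; haveI := hBs; haveI := hBc
  haveI : IsAffine B.left := isAffine_of_isAffineHom b.left
  haveI : Group.IsSolvable (𝟙_ (Over (Spec (CommRingCat.of k))) ⟶ B) :=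
    (Group.isSolvable_def _).2 ⟨hsol.choose, hsol.choose_spec _⟩
  haveI : Nonempty X.left := ⟨o.left (IsLocalRing.closedPoint k)⟩
  obtain ⟨x, hx⟩ := Groth.Agent.S3276.result k B X (a.restrict (b ≫ i))
  haveI := hX.1; haveI := hX.2.2.1
  obtain ⟨v, hv⟩ := BorelFix21.exists_pt_lift (a.orbitMap o) (toUnit (VecGrp.pt k k) ≫ x)
  let gm : 𝟙_ (Over (Spec (CommRingCat.of k))) ⟶ G := InvRing21.toPt _ ≫ v
  have hγ : gm ≫ a.orbitMap o = x := by
    rw [Category.assoc, hv, ← Category.assoc, toUnit_unique (InvRing21.toPt _ ≫ toUnit _) (𝟙 _), Category.id_comp]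
  let cγ : B ⟶ G := toUnit B ≫ gm
  have hfix : cγ ≫ a.orbitMap o = ((b ≫ i) * cγ) ≫ a.orbitMap o := by
    have h1 := hx B (𝟙 B)
    rw [AlgGrp.Action.lift_restrict_act, Category.id_comp] at h1
    have h2 : cγ ≫ a.orbitMap o = toUnit B ≫ x := by rw [Category.assoc, hγ]
    rw [h2]
    conv_lhs => rw [← h1, ← h2, AlgGrp.Action.comp_orbitMap, ← AlgGrpBasic19.act_mul, ← AlgGrp.Action.comp_orbitMap]
  obtain ⟨f, hf⟩ := (quotient_comp_eq_iff hX cγ ((b ≫ i) * cγ)).1 hfix
  have hf' : f ≫ h = cγ⁻¹ * (b ≫ i) * cγ := by rw [_root_.mul_assoc, hf, inv_mul_cancel_left]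
  haveI : Mono i := Over.mono_of_mono_left i
  obtain ⟨φ, hφ⟩ := hN N (toUnit N ≫ gm)⁻¹ (𝟙 N)
  obtain ⟨ψ, hψ⟩ := hN N (toUnit N ≫ gm) (𝟙 N)
  rw [Category.id_comp, _root_.inv_inv] at hφ
  rw [Category.id_comp] at hψ
  have h1 : φ ≫ ψ = 𝟙 N := by
    rw [← cancel_mono i, Category.assoc, ← hψ]
    simp only [MonObj.comp_mul, GrpObj.comp_inv, ← Category.assoc, comp_toUnit, ← hφ, Category.id_comp]
    group
  have h2 : ψ ≫ φ = 𝟙 N := by
    rw [← cancel_mono i, Category.assoc, ← hφ]
    simp only [MonObj.comp_mul, GrpObj.comp_inv, ← Category.assoc, comp_toUnit, ← hψ, Category.id_comp]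
    group
  have hmon : ∀ (χ : N ⟶ N) (g : 𝟙_ (Over (Spec (CommRingCat.of k))) ⟶ G),
      (toUnit N ≫ g) * i * (toUnit N ≫ g)⁻¹ = χ ≫ i → IsMonHom χ := fun χ g hχ =>
    TorsorSch25.isMonHom_of_points χ fun T s t => by
      rw [← cancel_mono i, MonObj.mul_comp (s ≫ χ) (t ≫ χ) i, Category.assoc, Category.assoc, Category.assoc, ← hχ]
      simp only [MonObj.comp_mul, GrpObj.comp_inv, ← Category.assoc, comp_toUnit, MonObj.mul_comp]
      group
  haveI : IsMonHom φ := hmon φ gm⁻¹ (by simp only [GrpObj.comp_inv, _root_.inv_inv]; exact hφ)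
  haveI : IsMonHom ψ := hmon ψ gm hψ
  haveI : IsIso φ := ⟨ψ, h1, h2⟩
  haveI : IsIso φ.left := inferInstanceAs (IsIso ((Over.forget _).map φ))
  haveI : IsIso ψ := ⟨φ, h2, h1⟩
  haveI : IsIso ψ.left := inferInstanceAs (IsIso ((Over.forget _).map ψ))
  refine ⟨B, inferInstance, b ≫ φ, f, ⟨inferInstance, by rw [Over.comp_left]; infer_instance, hBs, hBc, hsol,
    fun B' _ i' _ g hc hs hn hsol' hg => ?_⟩, ?_⟩
  · haveI := hc
    exact hmax B' (i' ≫ ψ) g (by rw [Over.comp_left]; infer_instance) hs hn hsol'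
      (by rw [← Category.assoc, hg, Category.assoc, h1, Category.comp_id])
  · rw [hf', Category.assoc, ← hφ]
    simp only [cγ, MonObj.comp_mul, GrpObj.comp_inv, ← Category.assoc, comp_toUnit]

end Groth.Agent.AffPart25
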