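import Groth.Agent.Lib.AbRigid.KernelPair
import Groth.Agent.Lib.CubeField.Product
import Groth.Agent.Lib.FlatDesc26.Basic
import Groth.Agent.Lib.QuotField20.Normal
import Groth.Agent.Lib.AffQuot19.Basic
import Groth.Agent.Lib.GrpGen20.DomSurj
import Groth.Agent.Lib.CurveNF.Compact
import Groth.Agent.Lib.GrpSmooth19.Basic

/-!
# Extensions, preimages and images of connected affine subgroups
-/

set_option autoImplicit false
set_option linter.style.haveILetI false
set_option backward.isDefEq.respectTransparency false
set_option backward.isDefEq.respectTransparency.types false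

universe u

open CategoryTheory CategoryTheory.Limits MonoidalCategory CartesianMonoidalCategory MonObj AlgebraicGeometry

noncomputable section

namespace Groth.Agent.AffPart25

variable {k : Type u} [Field k] [IsAlgClosed k]
variable {G Q N : Over (Spec (CommRingCat.of k))} [GrpObj G] [GrpObj Q] [GrpObj N]

/-- An open surjection with connected fibres onto a connected space has connected source. -/
theorem connectedSpace_of_fibres {A B : Type*} [TopologicalSpace A] [TopologicalSpace B] [ConnectedSpace B]
    (f : A → B) (ho : IsOpenMap f) (hs : Function.Surjective f) (hf : ∀ b, IsPreconnected (f ⁻¹' {b})) :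
    ConnectedSpace A := by
  haveI : Nonempty A := ⟨(hs (Classical.arbitrary B)).choose⟩
  refine { toPreconnectedSpace := preconnectedSpace_iff_clopen.mpr fun U hU => ?_, toNonempty := inferInstance }
  by_contra h
  rw [not_or] at h
  obtain ⟨a, ha⟩ := Set.nonempty_iff_ne_empty.mpr h.1
  obtain ⟨a', ha'⟩ := Set.nonempty_compl.mpr h.2
  have hcov : Set.univ ⊆ f '' U ∪ f '' Uᶜ := fun c _ => by
    obtain ⟨x, rfl⟩ := hs c
    rcases em (x ∈ U) with hx | hx
    · exact Or.inl ⟨x, hx, rfl⟩
    · exact Or.inr ⟨x, hx, rfl⟩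
  obtain ⟨c, -, ⟨x, hx, hxc⟩, ⟨y, hy, hyc⟩⟩ := (ConnectedSpace.toPreconnectedSpace (α := B)).isPreconnected_univ _ _ (ho _ hU.2)
    (ho _ hU.1.isOpen_compl) hcov ⟨f a, trivial, a, ha, rfl⟩ ⟨f a', trivial, a', ha', rfl⟩
  obtain ⟨z, -, hz, hz'⟩ := hf c U Uᶜ hU.2 hU.1.isOpen_compl (fun z _ => em (z ∈ U)) ⟨x, hxc, hx⟩ ⟨y, hyc, hy⟩
  exact hz' hz

section Kernel

variable [LocallyOfFiniteType Q.hom] [QuasiCompact G.hom] (i : N ⟶ G) (q : G ⟶ Q) [IsMonHom q] [Flat q.left]
  [Surjective q.left] (hker : AlgGrp.IsKernel i q)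

include hker in
/-- A quotient map with smooth kernel is smooth. -/
theorem smooth_left [Smooth N.hom] : Smooth q.left := by
  haveI : IsSeparated Q.hom := AbRigid.isSeparated_of_grpObj Q
  haveI : QuasiCompact (q.left ≫ Q.hom) := by rw [Over.w]; infer_instance
  haveI : QuasiCompact q.left := QuasiCompact.of_comp q.left Q.hom
  exact AbRigid.of_kernel q i hker @Smooth ‹_›

include hker in
/-- An extension of a smooth connected group by a smooth connected group is smooth and connected. -/
theorem smooth_connected [Smooth Q.hom] [Smooth N.hom] [ConnectedSpace N.left] [ConnectedSpace Q.left] :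
    Smooth G.hom ∧ ConnectedSpace G.left := by
  haveI := smooth_left i q hker
  refine ⟨by rw [← Over.w q]; infer_instance, ?_⟩
  haveI := AbRigid.geometricallyIrreducible_of_connected N
  haveI := CubeField.geometricallyConnected_of_irreducible N.hom
  refine connectedSpace_of_fibres q.left q.left.isOpenMap q.left.surjective fun a => ?_
  obtain ⟨g, rfl⟩ := q.left.surjective a
  haveI : GeometricallyConnected (fst G N).left :=
    inferInstanceAs (GeometricallyConnected (pullback.fst G.hom N.hom))
  have hconn := ((fst G N).left.isConnected_preimage_singleton g).isPreconnected.image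
    (fst G N * (snd G N ≫ i)).left ((fst G N * (snd G N ≫ i)).left.continuous.continuousOn)
  have hp : IsPullback (fst G N).left (fst G N * (snd G N ≫ i)).left q.left q.left :=
    (AbRigid.isPullback_kernelPair q i hker).map (Over.forget _)
  have heq : q.left ⁻¹' {q.left g} = (fst G N * (snd G N ≫ i)).left '' ((fst G N).left ⁻¹' {g}) := by
    ext g'
    constructor
    · intro hg'
      obtain ⟨z, hz1, hz2⟩ := Scheme.Pullback.exists_preimage_pullback (f := q.left) (g := q.left) g g'
        (Eq.symm hg')
      refine ⟨hp.isoPullback.inv z, ?_, ?_⟩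
      · show (fst G N).left _ = g
        rw [← Scheme.Hom.comp_apply, hp.isoPullback_inv_fst]
        exact hz1
      · rw [← Scheme.Hom.comp_apply, hp.isoPullback_inv_snd]
        exact hz2
    · rintro ⟨z, hz, rfl⟩
      have hw : (fst G N).left ≫ q.left = (fst G N * (snd G N ≫ i)).left ≫ q.left := hp.w
      have hw' := congrArg (fun m => m z) hw
      simp only [Scheme.Hom.comp_apply] at hw'
      show q.left _ = q.left g
      rw [← hw', show (fst G N).left z = g from hz]
  rw [heq]
  exact hconn

include hker in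
/-- A quotient map with affine kernel is affine. -/
theorem isAffineHom_left [QuasiCompact Q.hom] [LocallyOfFiniteType G.hom] [IsAffine N.left] : IsAffineHom q.left := by
  haveI : IsSeparated G.hom := AbRigid.isSeparated_of_grpObj G
  haveI : IsSeparated Q.hom := AbRigid.isSeparated_of_grpObj Q
  haveI : QuasiCompact (q.left ≫ Q.hom) := by rw [Over.w q]; infer_instance
  haveI : QuasiCompact q.left := QuasiCompact.of_comp q.left Q.hom
  haveI : QuasiSeparated (q.left ≫ Q.hom) := by rw [Over.w q]; infer_instance
  haveI : QuasiSeparated q.left := QuasiSeparated.of_comp q.left Q.hom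
  have hsq : IsPullback (fst G N * (snd G N ≫ i)).left (fst G N).left q.left q.left :=
    ((AbRigid.isPullback_kernelPair q i hker).map (Over.forget _)).flip
  haveI : IsAffineHom N.hom := inferInstance
  haveI : IsAffineHom (fst G N).left :=
    (MorphismProperty.pullback_fst (P := @IsAffineHom) G.hom N.hom inferInstance : IsAffineHom (pullback.fst G.hom N.hom))
  haveI : IsAffineHom (pullback.snd q.left q.left) := by
    rw [← hsq.isoPullback_inv_snd]
    infer_instance
  exact FlatDesc26.isAffineHom_of_flat_cover q.left q.left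

include hker in
/-- An extension of an affine group by an affine group is affine. -/
theorem isAffine_of_extension [LocallyOfFiniteType G.hom] [QuasiCompact Q.hom] [IsAffine N.left] [IsAffine Q.left] :
    IsAffine G.left := by
  haveI := isAffineHom_left i q hker
  exact isAffine_of_isAffineHom q.left

end Kernel

/-- The quotient of a smooth group by a closed normal subgroup. -/
theorem exists_quotient [Smooth G.hom] [QuasiCompact G.hom] (n : N ⟶ G) [IsMonHom n] [IsClosedImmersion n.left]
    (hN : AlgGrp.IsNormalHom n) :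
    ∃ (Q : Over (Spec (CommRingCat.of k))) (_ : GrpObj Q) (q : G ⟶ Q), IsMonHom q ∧
      Flat q.left ∧ Surjective q.left ∧ QuasiCompact q.left ∧
      AlgGrp.IsKernel n q ∧ Smooth Q.hom ∧ QuasiCompact Q.hom := by
  haveI : IsSeparated G.hom := AbRigid.isSeparated_of_grpObj G
  haveI : Mono n := Over.mono_of_mono_left n
  haveI : LocallyOfFiniteType N.hom := by rw [← Over.w n]; infer_instance
  obtain ⟨Q, p, hp, hpb, hQ, -⟩ := QuotField20.exists_quotient_field n
  obtain ⟨_, hpm, hker⟩ := QuotField20.exists_grpObj_quotient n hp hpb hN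
  haveI := hpm
  haveI := hp.surj
  haveI := hp.flat
  haveI := hQ
  haveI : CompactSpace G.left := (quasiCompact_iff_compactSpace G.hom).1 inferInstance
  haveI : CompactSpace Q.left := ⟨by
    rw [← (p.left.surjective).range_eq]
    exact isCompact_range p.left.continuous⟩
  haveI : QuasiCompact Q.hom := (quasiCompact_iff_compactSpace Q.hom).2 inferInstance
  haveI := OrbitTop19.isReduced_of_smooth G.hom
  haveI : IsReduced Q.left := H12.isReduced_of_flat_surjective p.left
  haveI : Smooth Q.hom := GrpSmooth19.smooth_of_isReduced Q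
  exact ⟨Q, inferInstance, p, hpm, hp.flat, hp.surj, AlgGrpBasic19.quasiCompact_left p, hker, inferInstance,
    inferInstance⟩

/-- The preimage of a subgroup under a homomorphism. -/
theorem exists_preimage {H : Over (Spec (CommRingCat.of k))} [GrpObj H] (q : G ⟶ Q) [IsMonHom q]
    (j : H ⟶ Q) [IsMonHom j] [IsClosedImmersion j.left] :
    ∃ (P : Over (Spec (CommRingCat.of k))) (_ : GrpObj P) (p : P ⟶ G) (r : P ⟶ H), IsMonHom p ∧ IsMonHom r ∧
      IsClosedImmersion p.left ∧ IsPullback p r q j ∧ (AlgGrp.IsNormalHom j → AlgGrp.IsNormalHom p) ∧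
      ∀ {N : Over (Spec (CommRingCat.of k))} (i : N ⟶ G), AlgGrp.IsKernel i q →
        ∃ l : N ⟶ P, l ≫ p = i ∧ AlgGrp.IsKernel l r := by
  haveI : Mono j := Over.mono_of_mono_left j
  let P := pullback q j
  let p : P ⟶ G := pullback.fst q j
  let r : P ⟶ H := pullback.snd q j
  have hsq : IsPullback p r q j := IsPullback.of_hasPullback q j
  haveI : IsClosedImmersion p.left :=
    MorphismProperty.of_isPullback (hsq.map (Over.forget _)).flip ‹IsClosedImmersion j.left›
  haveI : Mono p := Over.mono_of_mono_left p
  have hw : p ≫ q = r ≫ j := hsq.w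
  obtain ⟨e, he, he'⟩ := hsq.exists_lift η[G] η[H] (by rw [IsMonHom.one_hom q, IsMonHom.one_hom j])
  obtain ⟨m, hm, hm'⟩ := hsq.exists_lift ((p ⊗ₘ p) ≫ μ[G]) ((r ⊗ₘ r) ≫ μ[H]) (by
    rw [Category.assoc, Category.assoc, IsMonHom.mul_hom q, IsMonHom.mul_hom j,
      MonoidalCategory.tensorHom_comp_tensorHom_assoc, MonoidalCategory.tensorHom_comp_tensorHom_assoc, hw])
  obtain ⟨v, hv, hv'⟩ := hsq.exists_lift (p ≫ GrpObj.inv) (r ≫ GrpObj.inv) (by
    rw [Category.assoc, Category.assoc, GrpObj.inv_hom q, GrpObj.inv_hom j, reassoc_of% hw])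
  letI : GrpObj P := AbRigid.grpObjOfMono p e he m hm v hv
  haveI : IsMonHom p := ⟨he, hm⟩
  haveI : IsMonHom r := ⟨he', hm'⟩
  refine ⟨P, inferInstance, p, r, ‹_›, ‹_›, ‹_›, hsq, fun hn T g x => ?_, fun {N} i hi => ?_⟩
  · obtain ⟨x', hx'⟩ := hn T (g ≫ q) (x ≫ r)
    obtain ⟨l, hl, -⟩ := hsq.exists_lift (g * (x ≫ p) * g⁻¹) x' (by
      rw [MonObj.mul_comp, MonObj.mul_comp, GrpObj.inv_comp, Category.assoc, hw, ← Category.assoc, hx'])
    exact ⟨l, hl.symm⟩
  · obtain ⟨l, hl, hl'⟩ := hsq.exists_lift i (toUnit N ≫ η[H]) (by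
      rw [Category.assoc, IsMonHom.one_hom j]; exact hi.w)
    refine ⟨l, hl, ?_⟩
    refine IsPullback.of_right ?_ hl' hsq
    rw [hl, IsMonHom.one_hom j]
    exact hi

/-- The image of a smooth connected affine group is smooth, connected and affine. -/
theorem exists_affine_image {B : Over (Spec (CommRingCat.of k))} [GrpObj B] [IsAffine B.left] [Smooth B.hom]
    [ConnectedSpace B.left] [LocallyOfFiniteType Q.hom] [QuasiCompact Q.hom] (f : B ⟶ Q) [IsMonHom f] :
    ∃ (H : Over (Spec (CommRingCat.of k))) (_ : GrpObj H) (j : H ⟶ Q) (g : B ⟶ H), IsMonHom j ∧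
      IsClosedImmersion j.left ∧ IsMonHom g ∧ Flat g.left ∧ Surjective g.left ∧ g ≫ j = f ∧ Smooth H.hom ∧
      ConnectedSpace H.left ∧ IsAffine H.left := by
  haveI : QuasiCompact B.hom := inferInstance
  haveI : QuasiCompact f.left := AlgGrpBasic19.quasiCompact_left f
  haveI : IsReduced B.left := OrbitTop19.isReduced_of_smooth B.hom
  obtain ⟨H, _, j, g, hj, hg, hgj, hjc, hker, hgq, hgs⟩ := GrpGen20.exists_image f
  haveI := hj; haveI := hg; haveI := hjc; haveI := hgq; haveI := hgs
  haveI : LocallyOfFiniteType H.hom := by rw [← Over.w j]; infer_instance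
  haveI : QuasiCompact H.hom := by rw [← Over.w j]; infer_instance
  haveI : IsReduced H.left := by
    haveI := CurveNF.isReduced_image g.left
    have hk : g.left.imageι.ker = ⊥ := by
      rw [Scheme.Hom.imageι, Scheme.IdealSheafData.ker_subschemeι]
      exact hker
    haveI : IsIso g.left.imageι := IsClosedImmersion.isIso_iff_ker_eq_bot.mpr hk
    exact isReduced_of_isOpenImmersion (inv g.left.imageι)
  haveI : Smooth H.hom := GrpSmooth19.smooth_of_isReduced H
  haveI : Flat g.left := AbRigid.flat_of_surjective_of_isReduced B H g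
  haveI : ConnectedSpace H.left := g.left.surjective.connectedSpace g.left.continuous
  exact ⟨H, inferInstance, j, g, hj, hjc, hg, inferInstance, hgs, hgj, inferInstance, inferInstance,
    AffQuot19.isAffine_target_of_isAlgClosed B H g⟩

end Groth.Agent.AffPart25
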