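import Groth.Agent.Lib.AffPart25.Theorem
import Groth.Agent.Lib.AffPart25.Extension
import Groth.Agent.Lib.BorelFix21.Borels
import Groth.Agent.Lib.BorelFix21.Image
import Groth.Agent.Lib.TorPts21.QuotientAffine
import Groth.Agent.Lib.TorPts21.Sub
import Groth.Agent.Lib.TorusIsog19.Basic
import Groth.Agent.Lib.PtsDetect19.Basic
import Groth.Agent.Lib.GrpSmooth19.Basic
import Groth.Agent.Lib.AntiAff20.Smooth
import Groth.Agent.S3034
import Groth.Agent.S3293
import Groth.Agent.S7996
import Groth.Agent.S14582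

/-!
# Maximal connected solvable subgroups of arbitrary connected groups

`exists_image_smooth`, `exists_solvable_hull`, `exists_borel_structure`.
-/

set_option autoImplicit false
set_option linter.style.haveILetI false
set_option backward.isDefEq.respectTransparency false
set_option backward.isDefEq.respectTransparency.types false
set_option maxSynthPendingDepth 3

universe u

open CategoryTheory CategoryTheory.Limits MonoidalCategory CartesianMonoidalCategory MonObj AlgebraicGeometry

noncomputable section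

namespace Groth.Agent.AffPart25

variable {k : Type u} [Field k]

/-- The image of a homomorphism from a smooth connected group is a smooth connected subgroup. -/
theorem exists_image_smooth {P G : Over (Spec (CommRingCat.of k))} [GrpObj P] [GrpObj G] [Smooth P.hom]
    [QuasiCompact P.hom] [ConnectedSpace P.left] [LocallyOfFiniteType G.hom] [IsAlgClosed k] (u : P ⟶ G)
    [IsMonHom u] :
    ∃ (C : Over (Spec (CommRingCat.of k))) (_ : GrpObj C) (p : P ⟶ C) (i : C ⟶ G), IsMonHom p ∧ IsMonHom i ∧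
      p ≫ i = u ∧ Surjective p.left ∧ IsClosedImmersion i.left ∧ Smooth C.hom ∧ ConnectedSpace C.left ∧
      LocallyOfFiniteType C.hom := by
  haveI : IsSeparated G.hom := AbRigid.isSeparated_of_grpObj G
  haveI : QuasiCompact (u.left ≫ G.hom) := by rw [Over.w u]; infer_instance
  haveI : QuasiCompact u.left := QuasiCompact.of_comp u.left G.hom
  obtain ⟨C, _, p, i, hp, hi, hpi, hpf, hps, -, hic⟩ := Groth.Agent.S3034.result k P G u (by
    let f : pullback u.left (η[G] : _ ⟶ G).left ⟶ Spec (CommRingCat.of k) := pullback.snd _ _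
    exact (inferInstance : Flat f))
  haveI := hic
  haveI := hpf
  haveI := hps
  haveI : LocallyOfFiniteType C.hom := by rw [← Over.w i]; infer_instance
  haveI : IsReduced P.left := OrbitTop19.isReduced_of_smooth P.hom
  haveI : IsSeparated C.hom := AbRigid.isSeparated_of_grpObj C
  haveI : QuasiCompact (p.left ≫ C.hom) := by rw [Over.w p]; infer_instance
  haveI : QuasiCompact p.left := QuasiCompact.of_comp p.left C.hom
  haveI : IsReduced C.left := H12.isReduced_of_flat_surjective p.left
  exact ⟨C, inferInstance, p, i, hp, hi, hpi, hps, hic, GrpSmooth19.smooth_of_isReduced C,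
    hps.surj.connectedSpace p.left.continuous, inferInstance⟩

variable [IsAlgClosed k] {G M : Over (Spec (CommRingCat.of k))} [GrpObj G] [GrpObj M] (j : M ⟶ G) [IsMonHom j]
  (hcen : ∀ {T : Over (Spec (CommRingCat.of k))} (x : T ⟶ M) (g : T ⟶ G), (x ≫ j) * g = g * (x ≫ j))

include hcen in
/-- A central connected subgroup and a connected solvable subgroup generate a connected solvable subgroup. -/
theorem exists_solvable_hull [LocallyOfFiniteType G.hom] [Smooth M.hom] [QuasiCompact M.hom] [ConnectedSpace M.left]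
    {S : Over (Spec (CommRingCat.of k))} [GrpObj S] [Smooth S.hom] [QuasiCompact S.hom] [ConnectedSpace S.left]
    (s : S ⟶ G) [IsMonHom s] [IsCommMonObj M] (hS : Red.IsSolvableGrp S) :
    ∃ (C : Over (Spec (CommRingCat.of k))) (_ : GrpObj C) (c : C ⟶ G) (a : M ⟶ C) (b : S ⟶ C),
      IsMonHom c ∧ IsClosedImmersion c.left ∧ Smooth C.hom ∧ ConnectedSpace C.left ∧ Red.IsSolvableGrp C ∧
        LocallyOfFiniteType C.hom ∧
        a ≫ c = j ∧ b ≫ c = s ∧ Surjective ((b ⊗ₘ a) ≫ μ[C]).left := by
  let P := S ⊗ M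
  let u : P ⟶ G := (fst S M ≫ s) * (snd S M ≫ j)
  have hu : ∀ {T : Over (Spec (CommRingCat.of k))} (x : T ⟶ P), x ≫ u = (x ≫ fst S M ≫ s) * (x ≫ snd S M ≫ j) :=
    fun x => MonObj.comp_mul _ _ _
  haveI : IsMonHom u := TorsorSch25.isMonHom_of_points u fun T x y => by
    simp only [hu]
    simp only [← Category.assoc, MonObj.mul_comp]
    have e := hcen (x ≫ snd S M) ((y ≫ fst S M) ≫ s)
    simp only [Category.assoc] at e ⊢
    rw [_root_.mul_assoc, ← _root_.mul_assoc (y ≫ fst S M ≫ s), ← e]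
    simp only [_root_.mul_assoc]
  haveI : Smooth P.hom := inferInstanceAs (Smooth (pullback.fst S.hom M.hom ≫ S.hom))
  haveI : QuasiCompact P.hom := inferInstanceAs (QuasiCompact (pullback.fst S.hom M.hom ≫ S.hom))
  haveI : ConnectedSpace P.left := by
    haveI := AbRigid.irreducibleSpace_of_isAlgClosed S
    haveI := AbRigid.geometricallyIrreducible_of_connected M
    haveI : IrreducibleSpace ↥(pullback S.hom M.hom) := inferInstance
    exact inferInstanceAs (ConnectedSpace ↥(pullback S.hom M.hom))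
  have hP : Red.IsSolvableGrp P :=
    BorelFix21.isSolvableGrp_of_ker (fst S M) (snd S M) (𝟙 M) hS ⟨1, fun T => by
        rw [derivedSeries_one, commutator_def, Subgroup.commutator_eq_bot_iff_le_centralizer]
        intro x _
        rw [Subgroup.mem_centralizer_iff]
        intro y _
        letI : CommGroup (T ⟶ M) := Hom.commGroup
        exact _root_.mul_comm y x⟩
      (fun T g _ => ⟨g ≫ snd S M, Category.comp_id _⟩)
      (fun T g h1 h2 => CartesianMonoidalCategory.hom_ext _ _ (by rw [h1, MonObj.one_comp]) (by rw [h2, MonObj.one_comp]))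
  obtain ⟨C, _, p, c, hp, hc, hpc, hps, hcc, hCs, hCn, hCl⟩ := exists_image_smooth u
  haveI := hp
  haveI := hc
  haveI := hcc
  haveI := hps
  haveI := hCl
  haveI := hCs
  haveI : Mono c := Over.mono_of_mono_left c
  haveI : LocallyOfFiniteType P.hom := inferInstance
  have hC : Red.IsSolvableGrp C := by
    haveI : IsSeparated C.hom := AbRigid.isSeparated_of_grpObj C
    obtain ⟨n, hn⟩ := hP
    haveI : Group.IsSolvable (VecGrp.pt k k ⟶ P) := (Group.isSolvable_def _).2 ⟨n, hn _⟩
    let F : (VecGrp.pt k k ⟶ P) →* (VecGrp.pt k k ⟶ C) :=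
      MonoidHom.mk' (· ≫ p) fun a b => MonObj.mul_comp a b p
    exact BorelFix21.isSolvableGrp_of_points (Group.isSolvable_of_surjective (f := F) fun y =>
      BorelFix21.exists_pt_lift p y)
  let a : M ⟶ C := lift 1 (𝟙 M) ≫ p
  let b : S ⟶ C := lift (𝟙 S) 1 ≫ p
  have hbc : b ≫ c = s := by
    simp only [b, Category.assoc, hpc, hu, lift_fst_assoc, Category.id_comp, lift_snd_assoc, MonObj.one_comp,
      _root_.mul_one]
  have hac : a ≫ c = j := by
    simp only [a, Category.assoc, hpc, hu, lift_fst_assoc, Category.id_comp, lift_snd_assoc, MonObj.one_comp,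
      _root_.one_mul]
  refine ⟨C, inferInstance, c, a, b, hc, hcc, hCs, hCn, hC, hCl, hac, hbc, ?_⟩
  have hmul : (b ⊗ₘ a) ≫ μ[C] = p := by
    rw [← cancel_mono c, hpc, Category.assoc, IsMonHom.mul_hom c, ← Category.assoc, tensorHom_comp_tensorHom,
      hbc, hac]
    simp only [u, Hom.mul_def]
    congr 1
  rw [hmul]
  exact hps

omit [IsMonHom j] in
include hcen in
/-- Conjugation commutes with a central subgroup. -/
theorem conj_central {T : Over (Spec (CommRingCat.of k))} (g n : T ⟶ G) (x : T ⟶ M) :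
    g * (n * (x ≫ j)) * g⁻¹ = g * n * g⁻¹ * (x ≫ j) := by
  rw [← _root_.mul_assoc g n, _root_.mul_assoc (g * n), hcen x g⁻¹, ← _root_.mul_assoc]

/-- Borel subgroups of a connected group: the product of a Borel subgroup of the affine part and the anti-affine
part. -/
theorem exists_borel_structure [Smooth G.hom] [QuasiCompact G.hom] [ConnectedSpace G.left]
    {N : Over (Spec (CommRingCat.of k))} [GrpObj N] (i : N ⟶ G) [IsMonHom i] [IsClosedImmersion i.left]
    [Smooth N.hom] [ConnectedSpace N.left] [IsAffine N.left] [Smooth M.hom] [QuasiCompact M.hom]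
    [ConnectedSpace M.left] [IsCommMonObj M] [IsClosedImmersion j.left]
    (hMN : Surjective ((i ⊗ₘ j) ≫ μ[G]).left) (hn : AlgGrp.IsNormalHom j)
    (hcen : ∀ {T : Over (Spec (CommRingCat.of k))} (x : T ⟶ M) (g : T ⟶ G), (x ≫ j) * g = g * (x ≫ j))
    {H : Over (Spec (CommRingCat.of k))} [GrpObj H] (h : H ⟶ G) (hH : Red.IsBorelOver k h) :
    ∃ (B : Over (Spec (CommRingCat.of k))) (_ : GrpObj B) (b : B ⟶ N) (a : M ⟶ H) (c : B ⟶ H),
      Red.IsBorelOver k b ∧ a ≫ h = j ∧ c ≫ h = b ≫ i ∧ Surjective ((c ⊗ₘ a) ≫ μ[H]).left := by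
  obtain ⟨hhm, hhc, hhs, hhn, hhsol, hmax⟩ := id hH
  haveI := hhm; haveI := hhc; haveI := hhs; haveI := hhn
  haveI : IsSeparated G.hom := AbRigid.isSeparated_of_grpObj G
  haveI : Mono j := Over.mono_of_mono_left j
  haveI : QuasiCompact H.hom := by rw [← Over.w h]; infer_instance
  haveI : LocallyOfFiniteType H.hom := inferInstance
  obtain ⟨Q, _, q, hq, hqf, hqs, hqq, hker, hQs, hQq⟩ := exists_quotient j hn
  haveI := hq; haveI := hqf; haveI := hqs; haveI := hqq; haveI := hQs; haveI := hQq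
  have hjq : ∀ {T : Over (Spec (CommRingCat.of k))} (x : T ⟶ M), (x ≫ j) ≫ q = 1 := fun x => by
    rw [Category.assoc, hker.w, ← Category.assoc, comp_toUnit, Hom.one_def]
  haveI : Surjective (i ≫ q).left := ⟨fun y => by
    obtain ⟨g, rfl⟩ := q.left.surjective y
    obtain ⟨z, rfl⟩ := hMN.surj g
    refine ⟨(fst N M).left z, ?_⟩
    have e : ((i ⊗ₘ j) ≫ μ[G]) ≫ q = fst N M ≫ i ≫ q := by
      rw [show (i ⊗ₘ j) ≫ μ[G] = (fst N M ≫ i) * (snd N M ≫ j) by
        rw [Hom.mul_def]
        congr 1, MonObj.mul_comp, hjq, _root_.mul_one, Category.assoc]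
    exact (congrArg (fun m => m.left z) e).symm⟩
  haveI : IsReduced Q.left := OrbitTop19.isReduced_of_smooth Q.hom
  haveI : QuasiCompact (i ≫ q).left := AlgGrpBasic19.quasiCompact_left (i ≫ q)
  haveI : Flat (i ≫ q).left := TorusIsog19.flat_of_surjective (i ≫ q)
  haveI : IsAffine Q.left := TorPts21.isAffine_of_surjective_hom (i ≫ q)
  haveI : ConnectedSpace Q.left := (i ≫ q).left.surjective.connectedSpace (i ≫ q).left.continuous
  -- the image of the given subgroup in the affine quotient
  obtain ⟨C', _, p', c', hp', hc', hpc', hps', hcc', hCs', hCn', hCl'⟩ := exists_image_smooth (h ≫ q)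
  haveI := hp'; haveI := hc'; haveI := hcc'; haveI := hCs'; haveI := hCn'; haveI := hCl'; haveI := hps'
  haveI : IsSeparated C'.hom := AbRigid.isSeparated_of_grpObj C'
  have hsolC' : Red.IsSolvableGrp C' := by
    obtain ⟨n, hn'⟩ := hhsol
    haveI : Group.IsSolvable (VecGrp.pt k k ⟶ H) := (Group.isSolvable_def _).2 ⟨n, hn' _⟩
    let F : (VecGrp.pt k k ⟶ H) →* (VecGrp.pt k k ⟶ C') :=
      MonoidHom.mk' (· ≫ p') fun a b => MonObj.mul_comp a b p'
    exact BorelFix21.isSolvableGrp_of_points (Group.isSolvable_of_surjective (f := F) fun y =>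
      BorelFix21.exists_pt_lift p' y)
  obtain ⟨B', _, iB', f', hB', hf'⟩ := BorelFix21.exists_le_borel c' hsolC'
  obtain ⟨B, _, b, π, hB, hπ, hπb⟩ := BorelFix21.exists_borel_over (i ≫ q) iB' hB'
  obtain ⟨hbm, hbc, hbs, hbn, hbsol, -⟩ := id hB
  haveI := hbm; haveI := hbc; haveI := hbs; haveI := hbn; haveI := hπ
  obtain ⟨hB'm, hB'c, hB's, -, -, -⟩ := id hB'
  haveI := hB'c; haveI := hB's
  haveI : IsAffine B.left := isAffine_of_isAffineHom b.left
  haveI : IsAffine B'.left := isAffine_of_isAffineHom iB'.left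
  obtain ⟨C, _, c, a, bC, hc, hcc, hCs, hCn, hC, hCl, hac, hbC, hsurj⟩ :=
    exists_solvable_hull j hcen (b ≫ i) hbsol
  haveI := hc; haveI := hcc; haveI := hCs; haveI := hCn; haveI := hCl
  haveI : Mono c := Over.mono_of_mono_left c
  haveI : IsReduced H.left := OrbitTop19.isReduced_of_smooth H.hom
  obtain ⟨l, hl⟩ := PtsDetect19.exists_lift_algClosed (k := k) k h c fun x => by
    have x' : VecGrp.pt k k ⟶ H := x
    obtain ⟨y, hy⟩ := BorelFix21.exists_pt_lift π (show VecGrp.pt k k ⟶ B' from (x ≫ p') ≫ f')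
    let d : VecGrp.pt k k ⟶ G := (y ≫ b ≫ i)⁻¹ * (show VecGrp.pt k k ⟶ G from x ≫ h)
    have hd : d ≫ q = 1 := by
      have e : (y ≫ b ≫ i) ≫ q = (show VecGrp.pt k k ⟶ G from x ≫ h) ≫ q := by
        calc (y ≫ b ≫ i) ≫ q = (y ≫ π) ≫ iB' := by rw [Category.assoc y π, hπb]; simp only [Category.assoc]
          _ = ((x ≫ p') ≫ f') ≫ iB' := by rw [hy]
          _ = (x ≫ h) ≫ q := by simp only [Category.assoc, hf', hpc']
      simp only [d, MonObj.mul_comp, GrpObj.inv_comp, e, inv_mul_cancel]
    let m : VecGrp.pt k k ⟶ M := hker.lift d (toUnit _) (hd.trans Hom.one_def)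
    refine ⟨(y ≫ bC) * (m ≫ a), ?_⟩
    rw [MonObj.mul_comp, Category.assoc, hbC, Category.assoc, hac, show m ≫ j = d from hker.lift_fst _ _ _]
    simp only [d, mul_inv_cancel_left]
  haveI : IsMonHom l := BorelFix21.isMonHom_of_comp c l (hl.symm ▸ hhm)
  haveI : IsIso l := hmax C c l hcc hCs hCn hC hl
  haveI : Surjective ((bC ⊗ₘ a) ≫ μ[C]).left := hsurj
  refine ⟨B, inferInstance, b, a ≫ inv l, bC ≫ inv l, hB, ?_, ?_, ?_⟩
  · rw [Category.assoc, ← hl, IsIso.inv_hom_id_assoc, hac]
  · rw [Category.assoc, ← hl, IsIso.inv_hom_id_assoc, hbC]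
  · have e : ((bC ≫ inv l) ⊗ₘ (a ≫ inv l)) ≫ μ[H] = ((bC ⊗ₘ a) ≫ μ[C]) ≫ inv l := by
      rw [← cancel_mono l, Category.assoc, Category.assoc, IsMonHom.mul_hom l, ← Category.assoc,
        tensorHom_comp_tensorHom]
      simp
    rw [e, Over.comp_left]
    haveI : IsIso (inv l).left := inferInstanceAs (IsIso ((Over.forget _).map (inv l)))
    infer_instance

end Groth.Agent.AffPart25
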