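import Groth.Agent.Lib.AffPart25.Albanese
import Groth.Agent.Lib.MTRigid29.CentralSubDesc
import Groth.Agent.Lib.AlgSpDescent.RedNoeth
import Groth.Agent.Lib.PerfProd19.Basic
import Groth.Agent.Lib.TorPts21.FieldDescent
import Groth.Agent.Lib.BorelFix21.BaseChange

/-!
# Descent of the affine part from an algebraic closure
-/

set_option autoImplicit false
set_option linter.style.haveILetI false
set_option backward.isDefEq.respectTransparency false
set_option backward.isDefEq.respectTransparency.types false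
set_option maxSynthPendingDepth 3

universe u

open CategoryTheory Limits MonoidalCategory CartesianMonoidalCategory MonObj GrpObj AlgebraicGeometry Opposite
open Groth.Agent Groth.Agent.DiagGL Groth.Agent.MTRigid29

noncomputable section

namespace Groth.Agent.AffPart25

/-- The kernel sequence after base change. -/
theorem isKernel_bc {S S' : Scheme.{u}} {G T A : Over S} [GrpObj G] [GrpObj A] (i : T ⟶ G) (q : G ⟶ A)
    (hker : AlgGrp.IsKernel i q) (φ : S' ⟶ S) :
    AlgGrp.IsKernel ((Over.pullback φ).map i) ((Over.pullback φ).map q) := by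
  let P := Over.pullback φ
  have hη : P.map η[A] = toUnit _ ≫ η[P.obj A] := by
    have h : P.map (1 : 𝟙_ (Over S) ⟶ A) = 1 := Functor.map_one P
    rw [Hom.one_def, Hom.one_def, toUnit_unique (toUnit (𝟙_ (Over S))) (𝟙 _), Category.id_comp] at h
    exact h
  haveI : PreservesLimitsOfSize.{0, 0} P := (Over.mapPullbackAdj φ).rightAdjoint_preservesLimits
  have hTerm : IsTerminal (P.obj (𝟙_ (Over S))) :=
    IsTerminal.isTerminalObj P _ CartesianMonoidalCategory.isTerminalTensorUnit
  haveI : IsIso (toUnit (P.obj (𝟙_ (Over S)))) := isIso_of_isTerminal hTerm isTerminalTensorUnit _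
  have h := hker.map P
  exact h.of_iso (Iso.refl _) (Iso.refl _) (asIso (toUnit (P.obj (𝟙_ (Over S))))) (Iso.refl _) (by simp [P])
    (toUnit_unique _ _) (by simp [P]) (by rw [hη]; simp [P])

section Desc

variable {S S' : Scheme.{u}} {G : Over S} [GrpObj G] {π : S' ⟶ S} {H' : Over S'} (j' : H' ⟶ Red.bc π G)
  [GrpObj H'] [IsMonHom j'] [IsImmersion j'.left] [IsSeparated G.hom] [LocallyOfFiniteType G.hom]
  [IsAffineHom H'.hom] [Flat π] [Surjective π]

/-- An affine subgroup whose points do not depend on the lift of the base descends. -/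
theorem exists_descent
    (hind : ∀ {Z : Over S'} (p : (Over.map π).obj Z ⟶ (Over.map π).obj H'), ∃ y : Z ⟶ H', fl π G (y ≫ j') = p ≫ fl π G j')
    (hcov : ∀ V : S.Opens, IsAffineOpen V → ∃ W : S'.Opens, IsCompact (W : Set S') ∧ π.base '' (W : Set S') = (V : Set S)) :
    ∃ (H : Over S) (_ : GrpObj H) (j : H ⟶ G), IsMonHom j ∧ IsImmersion j.left ∧
      ∃ φ : Red.bc π H ≅ H', φ.hom ≫ j' = (Over.pullback π).map j := by
  haveI : Mono j' := Over.mono_of_mono_left j'
  haveI := quasiCompactCover_singleton.{u} π hcov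
  have hcovm : Presieve.ofArrows (fun _ : PUnit.{u + 1} => S') (fun _ => π) ∈ Scheme.fpqcPrecoverage S := by
    rw [Presieve.ofArrows_pUnit]
    refine ⟨?_, (Scheme.singleton_mem_precoverage_iff _ π).2 ⟨π.surjective, ‹_›⟩⟩
    rw [← PreZeroHypercover.presieve₀_singleton, Scheme.presieve₀_mem_qcPrecoverage_iff]
    infer_instance
  let ξ : (subFunctor j').obj (op ((Over.map π).obj H')) :=
    ⟨fl π G j', fun Z p => hind p⟩
  have hrep : ∀ (_ : PUnit.{u + 1}) (T : Over S') (xi : (subFunctor j').obj (op ((Over.map π).obj T))),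
      ∃! w : T ⟶ H', (subFunctor j').map ((Over.map π).map w).op ξ = xi := by
    intro _ T xi
    obtain ⟨y, hy⟩ := xi.2 T (𝟙 _)
    rw [Category.id_comp] at hy
    refine ⟨y, Subtype.ext ((fl_comp π G y j').symm.trans hy), fun w hw => (cancel_mono j').1 (fl_injective π G ?_)⟩
    rw [hy, fl_comp]
    exact congrArg Subtype.val hw
  obtain ⟨A, a, ha⟩ := exists_rep_of_cover (F := subFunctor j') (fun _ : PUnit.{u + 1} => π)
    (W := fun _ => H') (fun _ => ξ) hrep hcovm (isSheaf_subFunctor j')
    fun D hD => SchDesc12.isEffective_of_isAffineHom (D := D) hcovm fun i => by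
      rw [hD i]; exact ‹IsAffineHom H'.hom›
  have haj : ∀ {T : Over S} (g g' : T ⟶ A), g ≫ a.1 = g' ≫ a.1 → g = g' := fun {T} g g' h =>
    (ha T ((subFunctor j').map g.op a)).unique rfl (Subtype.ext h.symm)
  haveI : Mono a.1 := ⟨fun g g' => haj g g'⟩
  have hfac : ∀ {T : Over S} (x : T ⟶ G),
      (∀ (Z : Over S') (p : (Over.map π).obj Z ⟶ T), ∃ y : Z ⟶ H', fl π G (y ≫ j') = p ≫ x) →
      ∃ g : T ⟶ A, g ≫ a.1 = x := fun {T} x hx => by
    obtain ⟨g, hg, -⟩ := ha T ⟨x, hx⟩
    exact ⟨g, congrArg Subtype.val hg⟩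
  have hmem : ∀ {T : Over S} (g : T ⟶ A) (Z : Over S') (p : (Over.map π).obj Z ⟶ T),
      ∃ y : Z ⟶ H', fl π G (y ≫ j') = p ≫ g ≫ a.1 := fun {T} g => ((subFunctor j').map g.op a).2
  obtain ⟨hgrp, hhom⟩ := exists_grpObj_of_subgroup a.1
    (fun X g g' => hfac _ fun Z p => by
      obtain ⟨y, hy⟩ := hmem g Z p
      obtain ⟨y', hy'⟩ := hmem g' Z p
      exact ⟨y * y', by rw [MonObj.mul_comp, fl_mul, hy, hy', MonObj.comp_mul]⟩)
    (hfac _ fun Z p => ⟨1, by rw [MonObj.one_comp, fl_one, MonObj.comp_one]⟩)
    (fun X g => hfac _ fun Z p => by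
      obtain ⟨y, hy⟩ := hmem g Z p
      exact ⟨y⁻¹, by rw [GrpObj.inv_comp, fl_inv, hy, GrpObj.comp_inv]⟩)
  letI := hgrp
  haveI := hhom
  obtain ⟨y, hy⟩ := a.2 (Red.bc π A) (fl π A (𝟙 _))
  have hy' : y ≫ j' = (Over.pullback π).map a.1 := fl_injective π G (by
    rw [hy, ← fl_comp_map, Category.id_comp])
  obtain ⟨b, hb⟩ := hfac (fl π G j') ξ.2
  obtain ⟨z, hz⟩ := fl_surjective π A b
  have hz' : z ≫ (Over.pullback π).map a.1 = j' := fl_injective π G (by rw [fl_comp_map, hz, hb])
  haveI : Mono ((Over.pullback π).map a.1) := inferInstance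
  let φ : Red.bc π A ≅ H' := ⟨y, z,
    (cancel_mono ((Over.pullback π).map a.1)).1 (by rw [Category.assoc, hz', hy', Category.id_comp]),
    (cancel_mono j').1 (by rw [Category.assoc, hy', hz', Category.id_comp])⟩
  haveI : IsMonHom ((Over.pullback π).map a.1) := TorsorSch25.isMonHom_of_points _ fun T u v => fl_injective π G (by
    rw [fl_comp_map, fl_mul, fl_mul, MonObj.mul_comp, fl_comp_map, fl_comp_map])
  haveI : IsMonHom φ.hom := TorsorSch25.isMonHom_of_points y fun T u v => (cancel_mono j').1 (by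
    conv_rhs => rw [MonObj.mul_comp]
    rw [Category.assoc, Category.assoc, Category.assoc, hy', MonObj.mul_comp])
  haveI : IsIso y := ⟨⟨z, φ.hom_inv_id, φ.inv_hom_id⟩⟩
  haveI : IsIso y.left := (inferInstance : IsIso ((Over.forget _).map y))
  refine ⟨A, hgrp, a.1, hhom, ?_, φ, hy'⟩
  haveI : IsImmersion ((Over.pullback π).map a.1).left := by
    rw [← hy']
    exact (MorphismProperty.cancel_left_of_respectsIso @IsImmersion _ _).2 ‹_›
  haveI : QuasiCompact ((Over.pullback π).map a.1).left := by
    haveI : IsAffineHom (Red.bc π A).hom := by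
      rw [← Over.w y]
      exact (MorphismProperty.cancel_left_of_respectsIso @IsAffineHom _ _).2 ‹_›
    haveI : IsSeparated (Red.bc π G).hom := MorphismProperty.pullback_snd G.hom π inferInstance
    haveI : QuasiCompact (((Over.pullback π).map a.1).left ≫ (Red.bc π G).hom) := by
      rw [show ((Over.pullback π).map a.1).left ≫ (Red.bc π G).hom = (Red.bc π A).hom from Over.w _]
      infer_instance
    exact QuasiCompact.of_comp _ (Red.bc π G).hom
  have hfam : Presieve.ofArrows (fun _ : PUnit.{u + 1} => pullback G.hom π) (fun _ => pullback.fst G.hom π) ∈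
      Scheme.fpqcPrecoverage G.left := by
    haveI : Flat (pullback.fst G.hom π) := MorphismProperty.pullback_fst _ _ ‹_›
    haveI : Surjective (pullback.fst G.hom π) := MorphismProperty.pullback_fst _ _ ‹_›
    haveI := quasiCompactCover_singleton.{u} (pullback.fst G.hom π) (cover_pullback π G.hom hcov)
    rw [Presieve.ofArrows_pUnit]
    refine ⟨?_, (Scheme.singleton_mem_precoverage_iff _ _).2 ⟨(pullback.fst G.hom π).surjective, ‹_›⟩⟩
    rw [← PreZeroHypercover.presieve₀_singleton, Scheme.presieve₀_mem_qcPrecoverage_iff]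
    infer_instance
  haveI := H12.descendsAlong_isImmersion_qc.{u}
  refine (prop_of_fpqc_cover _ hfam (@IsImmersion ⊓ @QuasiCompact) a.1.left fun _ => ?_).1
  let e := (isPullback_map_left π a.1).isoPullback
  have he : e.hom ≫ pullback.snd a.1.left (pullback.fst G.hom π) = ((Over.pullback π).map a.1).left :=
    (isPullback_map_left π a.1).isoPullback_hom_snd
  exact (MorphismProperty.cancel_left_of_respectsIso (@IsImmersion ⊓ @QuasiCompact) e.hom _).1
    (by rw [he]; exact ⟨inferInstance, inferInstance⟩)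

end Desc

/-- A homomorphism from a connected affine group to a proper one is trivial over any field. -/
theorem eq_one_of_affine_field {k : Type u} [Field k] {H A : Over (Spec (CommRingCat.of k))} [GrpObj H] [GrpObj A]
    [Smooth H.hom] [ConnectedSpace H.left] [IsAffine H.left] [IsProper A.hom] (f : H ⟶ A) [IsMonHom f] : f = 1 := by
  let π : Spec (CommRingCat.of (AlgebraicClosure k)) ⟶ Spec (CommRingCat.of k) :=
    Spec.map (CommRingCat.ofHom (algebraMap k (AlgebraicClosure k)))
  let F := Over.pullback π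
  haveI : IsAffine (Red.bc π H).left := by
    haveI : IsAffineHom H.hom := inferInstance
    haveI : IsAffineHom (pullback.snd H.hom π) := MorphismProperty.pullback_snd H.hom π inferInstance
    exact isAffine_of_isAffineHom (pullback.snd H.hom π)
  haveI : Smooth (Red.bc π H).hom := inferInstanceAs (Smooth (pullback.snd H.hom π))
  haveI : IsProper (Red.bc π A).hom := inferInstanceAs (IsProper (pullback.snd A.hom π))
  haveI : ConnectedSpace (Red.bc π H).left := BorelFix21.connectedSpace_bc π H
  haveI : Surjective π := ⟨fun z => ⟨IsLocalRing.closedPoint _, Subsingleton.elim _ _⟩⟩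
  haveI : Flat π := inferInstance
  have h : F.map f = F.map 1 := (eq_one_of_affine (F.map f)).trans (Functor.map_one F).symm
  have h' := congrArg (fun m => m.left ≫ pullback.fst A.hom π) h
  have e : ∀ g : H ⟶ A, (F.map g).left ≫ pullback.fst A.hom π = pullback.fst H.hom π ≫ g.left :=
    fun g => pullback.lift_fst _ _ _
  simp only [e] at h'
  haveI : Flat (pullback.fst H.hom π) := MorphismProperty.pullback_fst _ _ ‹_›
  haveI : Surjective (pullback.fst H.hom π) := MorphismProperty.pullback_fst _ _ ‹_›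
  haveI : QuasiCompact (pullback.fst H.hom π) := MorphismProperty.pullback_fst _ _ (inferInstanceAs (QuasiCompact π))
  exact Over.OverMorphism.ext ((cancel_epi (pullback.fst H.hom π)).1 h')

/-- Over a product of two algebraic closures of a perfect field, a connected affine group maps trivially to a proper
one. -/
theorem eq_one_bc {k : Type u} [Field k] [PerfectField k] {K : Type u} [Field K]
    (π : Spec (CommRingCat.of K) ⟶ Spec (CommRingCat.of k)) (T A : Over (Spec (CommRingCat.of K))) [GrpObj T]
    [GrpObj A] [Smooth T.hom] [ConnectedSpace T.left] [IsAffine T.left] [IsProper A.hom] {P : Scheme.{u}}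
    (p₁ p₂ : P ⟶ Spec (CommRingCat.of K)) (hp : p₁ ≫ π = p₂ ≫ π) [IsReduced P]
    (f : Red.bc p₂ T ⟶ Red.bc p₁ A) [IsMonHom f] : f = 1 := by
  haveI : IsSeparated (Red.bc p₁ A).hom := inferInstanceAs (IsSeparated (pullback.snd A.hom p₁))
  haveI : Smooth (Red.bc p₂ T).hom := inferInstanceAs (Smooth (pullback.snd T.hom p₂))
  haveI : IsReduced (Red.bc p₂ T).left := AlgSpDescent.isReduced_of_smooth (Red.bc p₂ T).hom
  haveI : Surjective (equalizer.ι f.left (1 : Red.bc p₂ T ⟶ Red.bc p₁ A).left) := ⟨fun x => by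
    let s : P := (Red.bc p₂ T).hom x
    let Ω := AlgebraicClosure (P.residueField s)
    let ψ : Spec (CommRingCat.of Ω) ⟶ P :=
      Spec.map (CommRingCat.ofHom (algebraMap (P.residueField s) Ω)) ≫ P.fromSpecResidueField s
    let F := Over.pullback ψ
    let T' := F.obj (Red.bc p₂ T)
    haveI : IsAffineHom T.hom := inferInstance
    haveI : IsAffineHom (Red.bc p₂ T).hom := MorphismProperty.pullback_snd T.hom p₂ inferInstance
    haveI : IsAffine T'.left := by
      haveI : IsAffineHom (pullback.snd (Red.bc p₂ T).hom ψ) := MorphismProperty.pullback_snd _ ψ inferInstance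
      exact isAffine_of_isAffineHom (pullback.snd (Red.bc p₂ T).hom ψ)
    haveI : Smooth T'.hom := inferInstanceAs (Smooth (pullback.snd (Red.bc p₂ T).hom ψ))
    haveI : IsProper (F.obj (Red.bc p₁ A)).hom := by
      haveI : IsProper (Red.bc p₁ A).hom := inferInstanceAs (IsProper (pullback.snd A.hom p₁))
      exact inferInstanceAs (IsProper (pullback.snd (Red.bc p₁ A).hom ψ))
    haveI : ConnectedSpace T'.left := by
      haveI := AbRigid.geometricallyIrreducible_of_connected T
      haveI := CubeField.geometricallyConnected_of_irreducible T.hom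
      haveI : GeometricallyConnected (Red.bc p₂ T).hom :=
        inferInstanceAs (GeometricallyConnected (pullback.snd T.hom p₂))
      haveI : GeometricallyConnected T'.hom :=
        inferInstanceAs (GeometricallyConnected (pullback.snd (Red.bc p₂ T).hom ψ))
      have h1 := T'.hom.isConnected_preimage_singleton (IsLocalRing.closedPoint Ω)
      rw [show T'.hom ⁻¹' {IsLocalRing.closedPoint Ω} = Set.univ from
        Set.eq_univ_of_forall fun z => Subsingleton.elim (α := PrimeSpectrum Ω) _ _] at h1
      exact connectedSpace_iff_univ.2 h1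
    have h : F.map f = F.map 1 := (eq_one_of_affine (F.map f)).trans (Functor.map_one F).symm
    have h' := congrArg (fun m => m.left ≫ pullback.fst (Red.bc p₁ A).hom ψ) h
    have e : ∀ g : Red.bc p₂ T ⟶ Red.bc p₁ A,
        (F.map g).left ≫ pullback.fst (Red.bc p₁ A).hom ψ = pullback.fst (Red.bc p₂ T).hom ψ ≫ g.left :=
      fun g => pullback.lift_fst _ _ _
    simp only [e] at h'
    have hs : ψ (IsLocalRing.closedPoint Ω) = s := by
      rw [Scheme.Hom.comp_apply]; exact Scheme.fromSpecResidueField_apply s _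
    obtain ⟨x', hx', -⟩ := Scheme.Pullback.exists_preimage_pullback (f := (Red.bc p₂ T).hom) (g := ψ) x
      (IsLocalRing.closedPoint Ω) hs.symm
    exact ⟨equalizer.lift _ h' x', by rw [← Scheme.Hom.comp_apply, equalizer.lift_ι, hx']⟩⟩
  exact Over.OverMorphism.ext (ext_of_isDominant_of_isSeparated (Red.bc p₁ A).hom ((Over.w f).trans (Over.w _).symm)
    (equalizer.ι f.left (1 : Red.bc p₂ T ⟶ Red.bc p₁ A).left) (equalizer.condition _ _))

/-- The affine part does not depend on the lift of the base. -/
theorem affine_indep {k : Type u} [Field k] [PerfectField k] {K : Type u} [Field K] {π : Spec (CommRingCat.of K) ⟶ Spec (CommRingCat.of k)}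
    {G : Over (Spec (CommRingCat.of k))} [GrpObj G] [IsSeparated G.hom] [LocallyOfFiniteType G.hom]
    {T A : Over (Spec (CommRingCat.of K))} [GrpObj T] [GrpObj A] [Smooth T.hom] [ConnectedSpace T.left] [IsAffine T.left]
    (i : T ⟶ Red.bc π G) [IsMonHom i] (q : Red.bc π G ⟶ A) [IsMonHom q] (hk : AlgGrp.IsKernel i q) [IsProper A.hom]
    {Z : Over (Spec (CommRingCat.of K))} (p : (Over.map π).obj Z ⟶ (Over.map π).obj T) :
    ∃ y : Z ⟶ T, fl π G (y ≫ i) = p ≫ fl π G i := by
  let P := pullback π π
  let p₁ : P ⟶ Spec (CommRingCat.of K) := pullback.fst π π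
  let p₂ : P ⟶ Spec (CommRingCat.of K) := pullback.snd π π
  let r : P ⟶ Spec (CommRingCat.of k) := p₁ ≫ π
  haveI : IsReduced P := PerfProd19.isReduced_pullback π π
  have h₂ : p₂ ≫ π = r := pullback.condition.symm
  have h₁ : p₁ ≫ π = r := rfl
  haveI := isMonHom_compIso h₁ G
  haveI : IsMonHom (twist i h₂) := isMonHom_twist i h₂
  haveI : IsMonHom (compIso h₁ G).inv := inferInstance
  haveI : IsProper (Red.bc p₁ A).hom := inferInstanceAs (IsProper (pullback.snd A.hom p₁))
  haveI : IsMonHom ((Over.pullback p₁).map q) := inferInstance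
  have h1 : twist i h₂ ≫ (compIso h₁ G).inv ≫ (Over.pullback p₁).map q = 1 :=
    eq_one_bc π T A p₁ p₂ pullback.condition _
  have hk₁ := isKernel_bc i q hk p₁
  rw [← Category.assoc] at h1
  obtain ⟨c, hc⟩ : ∃ c : Red.bc p₂ T ⟶ Red.bc p₁ T, c ≫ (Over.pullback p₁).map i = twist i h₂ ≫ (compIso h₁ G).inv :=
    ⟨hk₁.lift _ (toUnit _) (by rw [h1, Hom.one_def]), hk₁.lift_fst _ _ _⟩
  let m : Z.left ⟶ P := pullback.lift Z.hom (p.left ≫ T.hom) ((Over.w p).symm.trans (Category.assoc _ _ _).symm)
  let W : Over P := Over.mk m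
  let h : W ⟶ Red.bc p₂ T := Over.homMk (pullback.lift p.left m (pullback.lift_snd _ _ _).symm) (pullback.lift_snd _ _ _)
  have hW : m ≫ p₁ = Z.hom := pullback.lift_fst _ _ _
  refine ⟨Over.homMk ((h ≫ c).left ≫ pullback.fst T.hom p₁) ?_, ?_⟩
  · rw [Category.assoc, pullback.condition, ← Category.assoc, show (h ≫ c).left ≫ pullback.snd T.hom p₁ = m from Over.w (h ≫ c), hW]
  · have h4 : h ≫ c ≫ twist i h₁ = h ≫ twist i h₂ := by
      rw [show twist i h₁ = (Over.pullback p₁).map i ≫ (compIso h₁ G).hom from rfl, ← Category.assoc c, hc,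
        Category.assoc, Iso.inv_hom_id, Category.comp_id]
    have h5 := congrArg (fun w => w.left ≫ pullback.fst G.hom r) h4
    simp only [Over.comp_left, Category.assoc, twist_left_fst] at h5
    ext1
    simp only [Over.comp_left, fl_left, Over.map_obj_left] at h5 ⊢
    simpa [h] using h5

end Groth.Agent.AffPart25
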