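import Groth.Agent.S14604
import Groth.Agent.S3293
import Groth.Agent.S19705
import Groth.Agent.Lib.AntiAff20.Smooth
import Groth.Agent.Lib.AntiAff20.Kernel
import Groth.Agent.Lib.AntiAffMin19.Basic

/-!
# Decomposition of groups over finite fields

`exists_abelian_part`: the largest anti-affine subgroup is an abelian subvariety; `isFinite_of_affine_proper`.
-/

set_option autoImplicit false
set_option linter.style.haveILetI false
set_option backward.isDefEq.respectTransparency false
set_option backward.isDefEq.respectTransparency.types false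
set_option maxSynthPendingDepth 3

universe u

open CategoryTheory CategoryTheory.Limits MonoidalCategory CartesianMonoidalCategory MonObj AlgebraicGeometry

noncomputable section

namespace Groth.Agent.AffPart25

variable {k : Type u} [Field k]

/-- A scheme which maps by closed immersions to an affine and to a proper scheme is finite over the field. -/
theorem isFinite_inter {P N B G : Over (Spec (CommRingCat.of k))} [IsAffine N.left] [IsProper B.hom]
    (p₁ : P ⟶ N) (p₂ : P ⟶ B) (i : N ⟶ G) (b : B ⟶ G) [IsClosedImmersion i.left] [IsClosedImmersion b.left]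
    (h : IsPullback p₁.left p₂.left i.left b.left) : IsFinite P.hom := by
  haveI : IsClosedImmersion p₁.left := MorphismProperty.of_isPullback (P := @IsClosedImmersion) h.flip ‹_›
  haveI : IsClosedImmersion p₂.left := MorphismProperty.of_isPullback (P := @IsClosedImmersion) h ‹_›
  haveI : IsProper P.hom := by rw [← Over.w p₂]; infer_instance
  haveI : IsAffine P.left := isAffine_of_isAffineHom p₁.left
  exact IsFinite.iff_isProper_and_isAffineHom.2 ⟨inferInstance, inferInstance⟩

variable [Finite k]

/-- Over a finite field, the largest anti-affine subgroup is an abelian subvariety. -/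
theorem exists_abelian_part (G : Over (Spec (CommRingCat.of k))) [GrpObj G] [LocallyOfFiniteType G.hom]
    [QuasiCompact G.hom] [ConnectedSpace G.left] (N : Over (Spec (CommRingCat.of k))) [GrpObj N] (i : N ⟶ G)
    [IsMonHom i] [IsClosedImmersion i.left] [IsAffine N.left] (hN : AlgGrp.IsNormalHom i)
    (A : Over (Spec (CommRingCat.of k))) [GrpObj A] [IsProper A.hom]
    (q : G ⟶ A) [IsMonHom q] [Surjective q.left] [Flat q.left] (hq : AlgGrp.IsKernel i q) :
    ∃ (M : Over (Spec (CommRingCat.of k))) (_ : GrpObj M) (j : M ⟶ G), IsMonHom j ∧ IsClosedImmersion j.left ∧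
      Smooth M.hom ∧ IsProper M.hom ∧ ConnectedSpace ↥M.left ∧ Surjective ((i ⊗ₘ j) ≫ μ[G]).left := by
  haveI : QuasiSeparated G.hom := AlgGrpBasic19.quasiSeparatedSpace
  haveI : IsSeparated G.hom := AbRigid.isSeparated_of_grpObj G
  haveI hci : IsClosedImmersion (pullback.fst (AffGrp19.toAff G) η[AffGrp19.aff G]).left :=
    AntiAffMin19.isClosedImmersion_kernel (G := G)
  obtain ⟨-, hlft, hqc, hbij⟩ := AntiAff20.exists_antiAffine_kernel G
  obtain ⟨hM, hj⟩ := AntiAffMin19.exists_kernel_grp (G := G)
  letI := hM
  haveI := hj
  haveI := hlft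
  haveI := hqc
  haveI : Mono (pullback.fst (AffGrp19.toAff G) η[AffGrp19.aff G]) := Over.mono_of_mono_left _
  have hsm : Smooth (pullback (AffGrp19.toAff G) η[AffGrp19.aff G]).hom := AntiAff20.smooth_of_antiAffine _ hbij
  have hpr : IsProper (pullback (AffGrp19.toAff G) η[AffGrp19.aff G]).hom := Groth.Agent.S14604.result k _ hbij
  have hcn : ConnectedSpace (pullback (AffGrp19.toAff G) η[AffGrp19.aff G]).left :=
    (Groth.Agent.S3293.result k _ hbij).1
  refine ⟨_, inferInstance, pullback.fst (AffGrp19.toAff G) η[AffGrp19.aff G], inferInstance, inferInstance, hsm, hpr, hcn, ?_⟩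
  refine (Groth.Agent.S19705.result k G N i hN A q hq _ (pullback.fst (AffGrp19.toAff G) η[AffGrp19.aff G]) hbij fun M₁ _ _ _ j₁ _ _ h₁ => ?_).1
  haveI : QuasiSeparated M₁.hom := by
    haveI : IsSeparated M₁.hom := AbRigid.isSeparated_of_grpObj M₁
    infer_instance
  exact AntiAffMin19.exists_factor (G := G) h₁ j₁

end Groth.Agent.AffPart25
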