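import Groth.Agent.Lib.AffPart25.Extension
import Groth.Agent.Lib.AbRigid.Maximal
import Groth.Agent.Lib.GrpDim20.Basic
import Groth.Agent.Lib.TopDimLib.Basic

/-!
# The largest connected affine normal subgroup
-/

set_option autoImplicit false
set_option linter.style.haveILetI false
set_option backward.isDefEq.respectTransparency false
set_option backward.isDefEq.respectTransparency.types false

universe u

open CategoryTheory CategoryTheory.Limits MonoidalCategory CartesianMonoidalCategory MonObj AlgebraicGeometry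

noncomputable section

namespace Groth.Agent.AffPart25

variable {k : Type u} [Field k] [IsAlgClosed k]

/-- A normal subgroup maps onto a normal subgroup of a quotient. -/
theorem isNormalHom_image {G Q N H : Over (Spec (CommRingCat.of k))} [GrpObj G] [GrpObj Q] [GrpObj N] [GrpObj H]
    [Smooth Q.hom] [Smooth H.hom] (q : G ⟶ Q) [IsMonHom q] [Surjective q.left] (i : N ⟶ G) (hi : AlgGrp.IsNormalHom i)
    (j : H ⟶ Q) [IsClosedImmersion j.left] (g : N ⟶ H) [Surjective g.left] (hg : g ≫ j = i ≫ q) :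
    AlgGrp.IsNormalHom j := by
  haveI : IsReduced (Q ⊗ H).left := by
    haveI : Smooth (Q ⊗ H).hom := by
      show Smooth (pullback.fst Q.hom H.hom ≫ Q.hom)
      infer_instance
    exact OrbitTop19.isReduced_of_smooth (Q ⊗ H).hom
  let c : Q ⊗ H ⟶ Q := fst Q H * (snd Q H ≫ j) * (fst Q H)⁻¹
  haveI : Surjective (q ⊗ₘ g).left := by
    rw [MonoidalCategory.tensorHom_def, Over.comp_left]
    haveI : Surjective (q ▷ N).left :=
      MorphismProperty.of_isPullback ((AbRigid.isPullback_whiskerRight q N).map (Over.forget _)) ‹Surjective q.left›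
    haveI : Surjective (Q ◁ g).left :=
      MorphismProperty.of_isPullback ((AbRigid.isPullback_whiskerLeft g Q).map (Over.forget _)) ‹Surjective g.left›
    infer_instance
  obtain ⟨n', hn'⟩ := hi (G ⊗ N) (fst G N) (snd G N)
  have hc : (q ⊗ₘ g) ≫ c = (n' ≫ g) ≫ j := by
    simp only [c, MonObj.comp_mul, GrpObj.comp_inv, tensorHom_fst, tensorHom_snd_assoc]
    rw [Category.assoc n', hg, ← Category.assoc n', ← hn', MonObj.mul_comp, MonObj.mul_comp, GrpObj.inv_comp,
      Category.assoc (snd G N) i q]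
  have hsub : Set.range c.left ⊆ Set.range j.left := by
    rintro _ ⟨z, rfl⟩
    obtain ⟨w, rfl⟩ := (q ⊗ₘ g).left.surjective z
    exact ⟨(n' ≫ g).left w, by rw [← Scheme.Hom.comp_apply, ← Scheme.Hom.comp_apply, ← Over.comp_left, ← Over.comp_left, hc]⟩
  obtain ⟨l, hl⟩ := RedSepLib.exists_lift_of_range_subset c.left j.left hsub
  let l' : Q ⊗ H ⟶ H := Over.homMk l (by rw [← Over.w j, reassoc_of% hl, Over.w c])
  have hl' : l' ≫ j = c := Over.OverMorphism.ext hl
  intro T t h
  refine ⟨lift t h ≫ l', ?_⟩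
  rw [Category.assoc, hl']
  simp only [c, MonObj.comp_mul, GrpObj.comp_inv, lift_fst, lift_snd_assoc]

/-- Two connected affine normal subgroups lie in a third one. -/
theorem exists_join {G N N' : Over (Spec (CommRingCat.of k))} [GrpObj G] [GrpObj N] [GrpObj N'] [Smooth G.hom]
    [QuasiCompact G.hom]
    (i : N ⟶ G) [IsMonHom i] [IsClosedImmersion i.left] [Smooth N.hom] [ConnectedSpace N.left] [IsAffine N.left]
    (hi : AlgGrp.IsNormalHom i)
    (i' : N' ⟶ G) [IsMonHom i'] [IsClosedImmersion i'.left] [Smooth N'.hom] [ConnectedSpace N'.left]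
    [IsAffine N'.left] (hi' : AlgGrp.IsNormalHom i') :
    ∃ (P : Over (Spec (CommRingCat.of k))) (_ : GrpObj P) (p : P ⟶ G), IsMonHom p ∧ IsClosedImmersion p.left ∧
      Smooth P.hom ∧ ConnectedSpace P.left ∧ IsAffine P.left ∧ AlgGrp.IsNormalHom p ∧
      (∃ a : N ⟶ P, a ≫ p = i) ∧ ∃ b : N' ⟶ P, b ≫ p = i' := by
  obtain ⟨Q, _, q, hqm, hqf, hqs, hqq, hker, hQs, hQq⟩ := exists_quotient i hi
  haveI := hqm; haveI := hqf; haveI := hqs; haveI := hqq; haveI := hQs; haveI := hQq
  obtain ⟨H, _, j, g, hj, hjc, hgm, hgf, hgs, hgj, hHs, hHc, hHa⟩ := exists_affine_image (i' ≫ q)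
  haveI := hj; haveI := hjc; haveI := hgs; haveI := hHs; haveI := hHc; haveI := hHa
  obtain ⟨P, _, p, r, hp, hr, hpc, hsq, hnorm, hkerP⟩ := exists_preimage q j
  haveI := hp; haveI := hr; haveI := hpc
  haveI : Mono p := Over.mono_of_mono_left p
  obtain ⟨l, hl, hlk⟩ := hkerP i hker
  haveI : Flat r.left := MorphismProperty.of_isPullback (hsq.map (Over.forget _)) ‹Flat q.left›
  haveI : Surjective r.left := MorphismProperty.of_isPullback (hsq.map (Over.forget _)) ‹Surjective q.left›
  haveI : QuasiCompact P.hom := by rw [← Over.w p]; infer_instance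
  haveI : LocallyOfFiniteType P.hom := by rw [← Over.w p]; infer_instance
  haveI : QuasiCompact H.hom := inferInstance
  obtain ⟨hPs, hPc⟩ := smooth_connected l r hlk
  obtain ⟨b, hb, -⟩ := hsq.exists_lift i' g hgj.symm
  exact ⟨P, inferInstance, p, hp, hpc, hPs, hPc, isAffine_of_extension l r hlk,
    hnorm (isNormalHom_image q i' hi' j g hgj), ⟨l, hl⟩, b, hb⟩

/-- The dimension of a group of finite type is finite. -/
theorem exists_dim (P : Over (Spec (CommRingCat.of k))) [GrpObj P] [LocallyOfFiniteType P.hom] :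
    ∃ d : ℕ, topologicalKrullDim P.left = (d : WithBot ℕ∞) := by
  let e : P.left := η[P].left (IsLocalRing.closedPoint k)
  haveI : IsLocallyNoetherian P.left := LocallyOfFiniteType.isLocallyNoetherian P.hom
  obtain ⟨b, hb⟩ := ENat.ne_top_iff_exists.1 (DimF18.coheight_ne_top (X := P.left) e)
  exact ⟨VarDim.sdim P.hom e + b, by rw [← GrpCM20.localDim_eq P e, DimF18.localDim_eq P.hom hb.symm]⟩

/-- A closed immersion of a group of no smaller dimension into a connected smooth group is an isomorphism. -/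
theorem isIso_of_dim_le {P N : Over (Spec (CommRingCat.of k))} [GrpObj P] [Smooth P.hom] [ConnectedSpace P.left]
    (f : N ⟶ P) [IsClosedImmersion f.left] (h : topologicalKrullDim P.left ≤ topologicalKrullDim N.left) :
    IsIso f := by
  haveI := AbRigid.geometricallyIrreducible_of_connected P
  haveI : IrreducibleSpace P.left := GeometricallyIrreducible.irreducibleSpace_of_subsingleton P.hom
  haveI : IsReduced P.left := OrbitTop19.isReduced_of_smooth P.hom
  obtain ⟨d, hd⟩ : ∃ d : ℕ, topologicalKrullDim P.left = (d : WithBot ℕ∞) := exists_dim P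
  have hr : Set.range f.left = Set.univ := by
    by_contra hne
    have := TopDimLib.dim_lt_of_closed_ssubset (by rw [hd]; exact fun e => ENat.natCast_ne_top d (WithBot.coe_inj.1 e)) _
      f.left.isClosedEmbedding.isClosed_range hne
    rw [← f.left.isEmbedding.toHomeomorph.isHomeomorph.topologicalKrullDim_eq] at this
    exact absurd h (not_le.2 this)
  haveI : Surjective f.left := ⟨Set.range_eq_univ.1 hr⟩
  haveI := isIso_of_isClosedImmersion_of_surjective f.left
  haveI : IsIso ((Over.forget (Spec (CommRingCat.of k))).map f) := inferInstanceAs (IsIso f.left)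
  exact isIso_of_reflects_iso f (Over.forget _)

/-- A connected affine normal subgroup of a quotient of `G` by a largest one is trivial. -/
theorem isIso_hom_of_quotient {G N : Over (Spec (CommRingCat.of k))} [GrpObj G] [GrpObj N] [Smooth G.hom]
    [QuasiCompact G.hom] (i : N ⟶ G) [IsMonHom i] [IsClosedImmersion i.left] [Smooth N.hom] [ConnectedSpace N.left]
    [IsAffine N.left]
    (hmax : ∀ (N' : Over (Spec (CommRingCat.of k))) [GrpObj N'] (i' : N' ⟶ G) [IsMonHom i'] [IsClosedImmersion i'.left]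
      [Smooth N'.hom] [ConnectedSpace ↥N'.left] [IsAffine N'.left], AlgGrp.IsNormalHom i' → ∃ f : N' ⟶ N, f ≫ i = i')
    {Q : Over (Spec (CommRingCat.of k))} [GrpObj Q] [LocallyOfFiniteType Q.hom] [QuasiCompact Q.hom] (q : G ⟶ Q)
    [IsMonHom q] [Surjective q.left] [Flat q.left] (hker : AlgGrp.IsKernel i q)
    {M : Over (Spec (CommRingCat.of k))} [GrpObj M] (j : M ⟶ Q) [IsMonHom j] [IsClosedImmersion j.left]
    [Smooth M.hom] [ConnectedSpace M.left] [IsAffine M.left] (hj : AlgGrp.IsNormalHom j) : IsIso M.hom := by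
  haveI : Mono j := Over.mono_of_mono_left j
  obtain ⟨P, _, p, r, hp, hr, hpc, hsq, hnorm, hkerP⟩ := exists_preimage q j
  haveI := hp; haveI := hr; haveI := hpc
  haveI : Mono p := Over.mono_of_mono_left p
  obtain ⟨l, hl, hlk⟩ := hkerP i hker
  haveI : Flat r.left := MorphismProperty.of_isPullback (hsq.map (Over.forget _)) ‹Flat q.left›
  haveI : Surjective r.left := MorphismProperty.of_isPullback (hsq.map (Over.forget _)) ‹Surjective q.left›
  haveI : QuasiCompact P.hom := by rw [← Over.w p]; infer_instance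
  haveI : LocallyOfFiniteType P.hom := by rw [← Over.w p]; infer_instance
  haveI : QuasiCompact M.hom := inferInstance
  obtain ⟨hPs, hPc⟩ := smooth_connected l r hlk
  haveI := hPs; haveI := hPc
  haveI := isAffine_of_extension l r hlk
  obtain ⟨a, ha⟩ := hmax P p (hnorm hj)
  have hr1 : r ≫ 𝟙 M = r ≫ toUnit M ≫ η[M] := by
    rw [Category.comp_id, ← cancel_mono j, ← hsq.w, ← ha, Category.assoc a i q, hker.w, ← Category.assoc, comp_toUnit,
      Category.assoc, Category.assoc, IsMonHom.one_hom j, ← Category.assoc, comp_toUnit]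
  haveI : QuasiCompact r.left := AlgGrpBasic19.quasiCompact_left r
  haveI := AlgGrpBasic19.epi_of_cover r
  have he : toUnit M ≫ η[M] = 𝟙 M := ((cancel_epi r).1 hr1).symm
  exact ⟨η[M].left, by simpa using congrArg (·.left) he, Over.w η[M]⟩

/-- The largest connected affine normal subgroup exists. -/
theorem exists_largest (G : Over (Spec (CommRingCat.of k))) [GrpObj G] [Smooth G.hom] [QuasiCompact G.hom] :
    ∃ (N : Over (Spec (CommRingCat.of k))) (_ : GrpObj N) (i : N ⟶ G), (IsMonHom i ∧ IsClosedImmersion i.left ∧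
      Smooth N.hom ∧ ConnectedSpace ↥N.left ∧ IsAffine N.left ∧ AlgGrp.IsNormalHom i) ∧
      ∀ (N' : Over (Spec (CommRingCat.of k))) [GrpObj N'] (i' : N' ⟶ G) [IsMonHom i'] [IsClosedImmersion i'.left]
        [Smooth N'.hom] [ConnectedSpace ↥N'.left] [IsAffine N'.left], AlgGrp.IsNormalHom i' →
        ∃ f : N' ⟶ N, f ≫ i = i' := by
  classical
  let S : Set ℕ := {d | ∃ (N : Over (Spec (CommRingCat.of k))) (_ : GrpObj N) (i : N ⟶ G),
    (IsMonHom i ∧ IsClosedImmersion i.left ∧ Smooth N.hom ∧ ConnectedSpace ↥N.left ∧ IsAffine N.left ∧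
      AlgGrp.IsNormalHom i) ∧ topologicalKrullDim N.left = (d : WithBot ℕ∞)}
  obtain ⟨D, hD⟩ := exists_dim G
  have hbdd : BddAbove S := ⟨D, fun d ⟨N, _, i, ⟨_, hc, _⟩, hd⟩ => by
    haveI := hc
    have h := i.left.isClosedEmbedding.isInducing.topologicalKrullDim_le
    rw [hd, hD] at h
    exact_mod_cast h⟩
  haveI : IsSeparated G.hom := AbRigid.isSeparated_of_grpObj G
  haveI : IsClosedImmersion η[G].left := isClosedImmersion_of_comp_eq_id G.hom _ (Over.w η[G])
  haveI : Smooth (𝟙_ (Over (Spec (CommRingCat.of k)))).hom := inferInstanceAs (Smooth (𝟙 (Spec (CommRingCat.of k))))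
  haveI : IsAffine (𝟙_ (Over (Spec (CommRingCat.of k)))).left := inferInstanceAs (IsAffine (Spec (CommRingCat.of k)))
  haveI : ConnectedSpace ↥(𝟙_ (Over (Spec (CommRingCat.of k)))).left :=
    inferInstanceAs (ConnectedSpace (Spec (CommRingCat.of k)))
  obtain ⟨d₀, hd₀⟩ := exists_dim (𝟙_ (Over (Spec (CommRingCat.of k))))
  have hne : S.Nonempty := ⟨d₀, _, inferInstance, η[G], ⟨inferInstance, inferInstance, inferInstance, inferInstance,
    inferInstance, fun T g n => ⟨n, by
      rw [toUnit_unique n (toUnit T), show toUnit T ≫ η[G] = 1 from rfl, _root_.mul_one, mul_inv_cancel]⟩⟩, hd₀⟩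
  obtain ⟨N, _, i, hprop, hd⟩ := Nat.sSup_mem hne hbdd
  obtain ⟨hi, hic, hNs, hNc, hNa, hNn⟩ := hprop
  haveI := hi; haveI := hic; haveI := hNs; haveI := hNc; haveI := hNa
  refine ⟨N, inferInstance, i, ⟨hi, hic, hNs, hNc, hNa, hNn⟩, ?_⟩
  intro N' _ i' _ _ _ _ _ hn'
  obtain ⟨P, _, p, hp, hpc, hPs, hPc, hPa, hPn, ⟨a, ha⟩, b, hb⟩ := exists_join i hNn i' hn'
  haveI := hPs; haveI := hPc; haveI := hp; haveI := hpc
  haveI : IsClosedImmersion a.left := by
    haveI : IsClosedImmersion (a.left ≫ p.left) := by rw [← Over.comp_left, ha]; infer_instance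
    exact IsClosedImmersion.of_comp a.left p.left
  obtain ⟨e, he⟩ := exists_dim P
  haveI : IsIso a := isIso_of_dim_le a (by
    rw [he, hd]
    exact_mod_cast le_csSup hbdd ⟨P, _, p, ⟨hp, hpc, hPs, hPc, hPa, hPn⟩, he⟩)
  exact ⟨b ≫ inv a, by rw [← ha, Category.assoc, IsIso.inv_hom_id_assoc, hb]⟩

end Groth.Agent.AffPart25
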