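import Groth.Agent.Lib.AffPart25.Albanese
import Groth.Agent.S14582
import Mathlib.AlgebraicGeometry.Group.Abelian

/-!
# The centre and the anti-affine part against the affine part
-/

set_option autoImplicit false
set_option linter.style.haveILetI false
set_option backward.isDefEq.respectTransparency false
set_option backward.isDefEq.respectTransparency.types false

universe u

open CategoryTheory CategoryTheory.Limits MonoidalCategory CartesianMonoidalCategory MonObj AlgebraicGeometry

noncomputable section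

namespace Groth.Agent.AffPart25

/-- The product map does not depend on the order when one factor is normal. -/
theorem surjective_mul_swap {S : Scheme.{u}} {G N H : Over S} [GrpObj G] [GrpObj N] [GrpObj H] (i : N ⟶ G)
    (hN : AlgGrp.IsNormalHom i) (h : H ⟶ G) [Surjective ((i ⊗ₘ h) ≫ μ[G]).left] :
    Surjective ((h ⊗ₘ i) ≫ μ[G]).left := by
  obtain ⟨n', hn'⟩ := hN (N ⊗ H) (snd N H ≫ h)⁻¹ (fst N H)
  rw [inv_inv] at hn'
  have e : lift (snd N H) n' ≫ (h ⊗ₘ i) ≫ μ[G] = (i ⊗ₘ h) ≫ μ[G] := by
    rw [lift_map_assoc, ← Hom.mul_def, ← hn', ← _root_.mul_assoc, ← _root_.mul_assoc, mul_inv_cancel, _root_.one_mul,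
      Hom.mul_def, lift_fst_comp_snd_comp]
  haveI : Surjective ((lift (snd N H) n').left ≫ ((h ⊗ₘ i) ≫ μ[G]).left) := by
    rw [← Over.comp_left, e]; infer_instance
  exact Surjective.of_comp (lift (snd N H) n').left _

variable {k : Type u} [Field k] [IsAlgClosed k] {G N : Over (Spec (CommRingCat.of k))} [GrpObj G] [GrpObj N]

/-- The centre surjects onto an abelian quotient, the quotient by the centre being affine. -/
theorem surjective_centre_comp {Z A : Over (Spec (CommRingCat.of k))} [GrpObj Z] [GrpObj A] [Smooth G.hom]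
    [QuasiCompact G.hom] [ConnectedSpace G.left] (z : Z ⟶ G) [IsMonHom z] [IsClosedImmersion z.left]
    (hZ : Red.IsCentre z) [IsProper A.hom] [Smooth A.hom] (α : G ⟶ A) [IsMonHom α] [Flat α.left] [Surjective α.left] :
    Surjective (z ≫ α).left := by
  haveI : ConnectedSpace A.left := α.left.surjective.connectedSpace α.left.continuous
  haveI := AbRigid.geometricallyReduced_of_smooth A.hom
  haveI : GeometricallyIntegral A.hom := AbRigid.geometricallyIntegral_of_connected A
  haveI : IsCommMonObj A := AlgebraicGeometry.isCommMonObj_of_isProper_of_geometricallyIntegral A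
  haveI : LocallyOfFiniteType Z.hom := by rw [← Over.w z]; infer_instance
  haveI : QuasiCompact Z.hom := by rw [← Over.w z]; infer_instance
  haveI : QuasiCompact (z ≫ α).left := AlgGrpBasic19.quasiCompact_left (z ≫ α)
  obtain ⟨C, _, c, p, hc, hp, hpc, hcc, -, -, hps⟩ := GrpGen20.exists_image (z ≫ α)
  haveI := hc; haveI := hp; haveI := hcc; haveI := hps
  have hcn : AlgGrp.IsNormalHom c := fun T g n => ⟨n, by rw [_root_.mul_comm g, mul_inv_cancel_right]⟩
  obtain ⟨D, _, d, hdm, hdf, hds, hdq, hdk, hDs, hDq⟩ := exists_quotient c hcn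
  haveI := hdm; haveI := hdf; haveI := hds; haveI := hdq; haveI := hDs; haveI := hDq
  haveI : ConnectedSpace D.left := d.left.surjective.connectedSpace d.left.continuous
  haveI : IsProper D.hom := by
    haveI : UniversallyClosed (d.left ≫ D.hom) := by rw [Over.w]; infer_instance
    haveI : UniversallyClosed D.hom := UniversallyClosed.of_comp_surjective d.left D.hom
    haveI : IsSeparated D.hom := AbRigid.isSeparated_of_grpObj D
    exact { }
  -- the quotient by the centre maps onto it
  have hcentral : AlgGrp.IsNormalHom z := fun T g f => ⟨f, by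
    have h := (hZ.2.2 T (f ≫ z)).1 ⟨f, rfl⟩ T (𝟙 T) g
    simp only [Category.id_comp, Category.comp_id] at h
    rw [← h, mul_inv_cancel_right]⟩
  obtain ⟨Q, _, q, hqm, hqf, hqs, hqq, hqk, hQs, hQq⟩ := exists_quotient z hcentral
  haveI := hqm; haveI := hqf; haveI := hqs; haveI := hqq; haveI := hQs; haveI := hQq
  haveI : ConnectedSpace Q.left := q.left.surjective.connectedSpace q.left.continuous
  haveI : IsAffine Q.left := AffGrp19.isAffine_of_centre G Z z hZ Q q hqk
  have hzd : z ≫ α ≫ d = 1 := by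
    rw [← Category.assoc, ← hpc, Category.assoc, hdk.w, ← Category.assoc, comp_toUnit, ← Hom.one_def]
  obtain ⟨e, he⟩ := AlgGrpBasic19.exists_desc q (α ≫ d) fun T a b h => by
    have hk : (a⁻¹ * b) ≫ q = toUnit T ≫ η[Q] := by
      rw [MonObj.mul_comp, GrpObj.inv_comp, h, inv_mul_cancel, Hom.one_def]
    have h2 : (a⁻¹ * b) ≫ α ≫ d = 1 := by rw [← hqk.lift_fst _ _ hk, Category.assoc, hzd, MonObj.comp_one]
    rw [MonObj.mul_comp, GrpObj.inv_comp] at h2
    exact inv_mul_eq_one.mp h2
  haveI := AlgGrpBasic19.epi_of_cover q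
  haveI : IsMonHom e := by
    haveI : Surjective (q ⊗ₘ q).left := by
      rw [MonoidalCategory.tensorHom_def, Over.comp_left]
      haveI : Surjective (q ▷ G).left :=
        MorphismProperty.of_isPullback ((AbRigid.isPullback_whiskerRight q G).map (Over.forget _)) ‹Surjective q.left›
      haveI : Surjective (Q ◁ q).left :=
        MorphismProperty.of_isPullback ((AbRigid.isPullback_whiskerLeft q Q).map (Over.forget _)) ‹Surjective q.left›
      infer_instance
    refine ⟨?_, ?_⟩
    · rw [← IsMonHom.one_hom q, Category.assoc, he, IsMonHom.one_hom]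
    · have h1 : (q ⊗ₘ q) ≫ μ[Q] ≫ e = (q ⊗ₘ q) ≫ (e ⊗ₘ e) ≫ μ[D] := by
        rw [← IsMonHom.mul_hom_assoc (f := q), he, MonoidalCategory.tensorHom_comp_tensorHom_assoc, he,
          IsMonHom.mul_hom]
      haveI : IsReduced (Q ⊗ Q).left := by
        haveI : Smooth (Q ⊗ Q).hom := by
          show Smooth (pullback.fst Q.hom Q.hom ≫ Q.hom)
          infer_instance
        exact OrbitTop19.isReduced_of_smooth (Q ⊗ Q).hom
      haveI : IsSeparated D.hom := inferInstance
      exact Over.OverMorphism.ext (ext_of_isDominant_of_isSeparated D.hom ((Over.w _).trans (Over.w _).symm)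
        (q ⊗ₘ q).left (congrArg CommaMorphism.left h1))
  have h1 : α ≫ d = 1 := by rw [← he, eq_one_of_affine e, MonObj.comp_one]
  refine ⟨fun x => ?_⟩
  obtain ⟨g, hg⟩ := α.left.surjective x
  have hk : α ≫ d = toUnit G ≫ η[D] := h1.trans Hom.one_def
  obtain ⟨w, hw⟩ := p.left.surjective ((hdk.lift α (toUnit G) hk).left g)
  refine ⟨w, ?_⟩
  rw [← hpc, Over.comp_left, Scheme.Hom.comp_apply, hw, ← Scheme.Hom.comp_apply, ← Over.comp_left, hdk.lift_fst, hg]

/-- `G` is generated by its centre and a normal subgroup with abelian quotient; it is commutative when the latter is. -/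
theorem centre_mul_surjective_and_comm {Z A : Over (Spec (CommRingCat.of k))} [GrpObj Z] [GrpObj A] [Smooth G.hom]
    [QuasiCompact G.hom] [ConnectedSpace G.left] [IsProper A.hom] [Smooth A.hom] (i : N ⟶ G) [IsMonHom i]
    [IsClosedImmersion i.left]
    (z : Z ⟶ G) (hZ : Red.IsCentre z) (α : G ⟶ A) [IsMonHom α] [Flat α.left] [Surjective α.left]
    (hker : AlgGrp.IsKernel i α) :
    Surjective ((z ⊗ₘ i) ≫ μ[G]).left ∧ (IsCommMonObj G ↔ IsCommMonObj N) := by
  haveI : IsSeparated G.hom := AbRigid.isSeparated_of_grpObj G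
  obtain ⟨Z', _, z', hz'm, hz'c, hz'iff⟩ := GrpTrans20.exists_centralizer (𝟙 G)
  haveI := hz'm; haveI := hz'c
  haveI := hZ.1
  haveI := hZ.2.1
  haveI : Mono z' := Over.mono_of_mono_left z'
  obtain ⟨u, hu⟩ := (hz'iff Z z).2 ((hZ.2.2 Z z).1 ⟨𝟙 Z, Category.id_comp z⟩)
  obtain ⟨v, hv⟩ := (hZ.2.2 Z' z').2 ((hz'iff Z' z').1 ⟨𝟙 Z', Category.id_comp z'⟩)
  haveI : IsIso v := ⟨⟨u, (cancel_mono z').1 (by rw [Category.assoc, hu, hv, Category.id_comp]),
    (cancel_mono z).1 (by rw [Category.assoc, hv, hu, Category.id_comp])⟩⟩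
  haveI : IsClosedImmersion z.left := by
    haveI : IsIso v.left := inferInstanceAs (IsIso ((Over.forget _).map v))
    rw [show z = inv v ≫ z' by rw [← hv, IsIso.inv_hom_id_assoc], Over.comp_left]
    haveI : IsIso (inv v).left := inferInstanceAs (IsIso ((Over.forget _).map (inv v)))
    infer_instance
  haveI := surjective_centre_comp z hZ α
  -- every point of `G` is the product of one of `Z` and one of `N`
  let W := pullback (z ≫ α) α
  let w₁ : W ⟶ Z := pullback.fst (z ≫ α) α
  let w₂ : W ⟶ G := pullback.snd (z ≫ α) α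
  have hw : IsPullback w₁ w₂ (z ≫ α) α := IsPullback.of_hasPullback _ _
  haveI : Surjective w₂.left := MorphismProperty.of_isPullback (hw.map (Over.forget _)) ‹Surjective (z ≫ α).left›
  have hk : ((w₁ ≫ z)⁻¹ * w₂) ≫ α = toUnit W ≫ η[A] := by
    rw [MonObj.mul_comp, GrpObj.inv_comp, Category.assoc, hw.w, inv_mul_cancel, Hom.one_def]
  have e : lift w₁ (hker.lift _ _ hk) ≫ (z ⊗ₘ i) ≫ μ[G] = w₂ := by
    rw [lift_map_assoc, hker.lift_fst, ← Hom.mul_def, mul_inv_cancel_left]
  haveI hsurj : Surjective ((z ⊗ₘ i) ≫ μ[G]).left := by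
    haveI : Surjective ((lift w₁ (hker.lift _ _ hk)).left ≫ ((z ⊗ₘ i) ≫ μ[G]).left) := by
      rw [← Over.comp_left, e]; infer_instance
    exact Surjective.of_comp (lift w₁ (hker.lift _ _ hk)).left _
  refine ⟨hsurj, fun hG => ?_, fun hNc => ?_⟩
  · haveI : Mono i := Over.mono_of_mono_left i
    exact ⟨by
      rw [← cancel_mono i, Category.assoc, IsMonHom.mul_hom, ← BraidedCategory.braiding_naturality_assoc,
        IsCommMonObj.mul_comm]⟩
  · set c := (z ⊗ₘ i) ≫ μ[G] with hc
    have hcomm : ∀ {T : Over (Spec (CommRingCat.of k))} (x y : T ⟶ Z ⊗ N), (x ≫ c) * (y ≫ c) = (y ≫ c) * (x ≫ c) := by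
      intro T x y
      have hzc : ∀ (t : T ⟶ Z) (g : T ⟶ G), (t ≫ z) * g = g * (t ≫ z) := fun t g => by
        have h := (hZ.2.2 T (t ≫ z)).1 ⟨t, rfl⟩ T (𝟙 T) g
        simpa only [Category.id_comp, Category.comp_id] using h
      have hd : ∀ x : T ⟶ Z ⊗ N, x ≫ c = ((x ≫ fst Z N) ≫ z) * ((x ≫ snd Z N) ≫ i) := fun x => by
        have e : c = (fst Z N ≫ z) * (snd Z N ≫ i) := by rw [hc, Hom.mul_def, lift_fst_comp_snd_comp]
        rw [e, MonObj.comp_mul, ← Category.assoc, ← Category.assoc]
      rw [hd, hd]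
      set a := (x ≫ fst Z N) ≫ z
      set b := (x ≫ snd Z N) ≫ i
      set a' := (y ≫ fst Z N) ≫ z
      set b' := (y ≫ snd Z N) ≫ i
      have hb : b * b' = b' * b := by
        show (x ≫ snd Z N) ≫ i * (y ≫ snd Z N) ≫ i = (y ≫ snd Z N) ≫ i * (x ≫ snd Z N) ≫ i
        rw [← MonObj.mul_comp (f₁ := x ≫ snd Z N), ← MonObj.mul_comp (f₁ := y ≫ snd Z N), _root_.mul_comm (x ≫ snd Z N)]
      exact Commute.mul_left (hzc _ _) (Commute.mul_right (hzc _ b).symm hb)
    haveI : Surjective (c ⊗ₘ c).left := by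
      rw [MonoidalCategory.tensorHom_def, Over.comp_left]
      haveI : Surjective (c ▷ (Z ⊗ N)).left :=
        MorphismProperty.of_isPullback ((AbRigid.isPullback_whiskerRight c (Z ⊗ N)).map (Over.forget _)) hsurj
      haveI : Surjective (G ◁ c).left :=
        MorphismProperty.of_isPullback ((AbRigid.isPullback_whiskerLeft c G).map (Over.forget _)) hsurj
      infer_instance
    haveI : IsReduced (G ⊗ G).left := by
      haveI : Smooth (G ⊗ G).hom := by
        show Smooth (pullback.fst G.hom G.hom ≫ G.hom)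
        infer_instance
      exact OrbitTop19.isReduced_of_smooth (G ⊗ G).hom
    have h2 : (c ⊗ₘ c) ≫ (fst G G * snd G G) = (c ⊗ₘ c) ≫ (snd G G * fst G G) := by
      rw [MonObj.comp_mul, MonObj.comp_mul, tensorHom_fst, tensorHom_snd]
      exact hcomm _ _
    have h3 : fst G G * snd G G = snd G G * fst G G :=
      Over.OverMorphism.ext (ext_of_isDominant_of_isSeparated G.hom ((Over.w _).trans (Over.w _).symm)
        (c ⊗ₘ c).left (congrArg CommaMorphism.left h2))
    exact ⟨by
      rw [Hom.mul_def, Hom.mul_def, lift_fst_snd, Category.id_comp] at h3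
      conv_rhs => rw [h3]
      congr 1⟩

end Groth.Agent.AffPart25
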