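import Groth.Agent.Lib.AffPart25.Largest
import Groth.Agent.Lib.Chevalley25.Main
import Groth.Agent.Lib.Chevalley25.Component
import Groth.Agent.Lib.TorsorNorm25.QuasiComplement
import Groth.Agent.Lib.AffGrp19.Centre
import Groth.Agent.Lib.GrpTrans20.Transporter

/-!
# Chevalley's structure theorem over an algebraically closed field
-/

set_option autoImplicit false
set_option linter.style.haveILetI false
set_option backward.isDefEq.respectTransparency false
set_option backward.isDefEq.respectTransparency.types false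

universe u

open CategoryTheory CategoryTheory.Limits MonoidalCategory CartesianMonoidalCategory MonObj AlgebraicGeometry

noncomputable section

namespace Groth.Agent.AffPart25

variable {k : Type u} [Field k] [IsAlgClosed k]

/-- The underlying space of a trivial scheme over a field is a point. -/
theorem subsingleton_of_isIso_hom (X : Over (Spec (CommRingCat.of k))) [IsIso X.hom] : Subsingleton X.left :=
  X.hom.homeomorph.toEquiv.subsingleton (β := PrimeSpectrum k)

/-- A group with a one-point open subgroup is discrete. -/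
theorem discreteTopology_of_openSubgroup (G : Over (Spec (CommRingCat.of k))) [GrpObj G] [LocallyOfFiniteType G.hom]
    {G₀ : Over (Spec (CommRingCat.of k))} [GrpObj G₀] (j : G₀ ⟶ G) [IsMonHom j] [IsOpenImmersion j.left]
    [Subsingleton G₀.left] : DiscreteTopology G.left := by
  refine discreteTopology_iff_isOpen_singleton.2 fun x => ?_
  obtain ⟨t, y, hy⟩ := Chevalley25.exists_translate G j x
  haveI : IsOpenImmersion (j ≫ Chevalley25.tau t).left := by rw [Over.comp_left]; infer_instance
  convert (j ≫ Chevalley25.tau t).left.isOpenEmbedding.isOpen_range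
  ext z
  constructor
  · rintro rfl; exact ⟨y, hy⟩
  · rintro ⟨w, rfl⟩; rw [Set.mem_singleton_iff, ← hy, Subsingleton.elim w y]

/-- A finite connected scheme over a field is a point. -/
theorem subsingleton_of_isFinite (X : Over (Spec (CommRingCat.of k))) [IsFinite X.hom] [ConnectedSpace X.left] :
    Subsingleton X.left := by
  haveI : IsLocallyArtinian X.left := IsLocallyArtinian.of_locallyQuasiFinite X.hom
  haveI : DiscreteTopology X.left := inferInstance
  exact PreconnectedSpace.trivial_of_discrete

/-- Being stable under conjugation can be checked after a surjective cover of the ambient group. -/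
theorem isNormalHom_of_cover {G N X : Over (Spec (CommRingCat.of k))} [GrpObj G] [GrpObj N] [Smooth G.hom] [Smooth N.hom]
    (i : N ⟶ G) [IsClosedImmersion i.left] (r : X ⟶ G) [Surjective r.left]
    (h : ∃ n' : X ⊗ N ⟶ N, (fst X N ≫ r) * (snd X N ≫ i) * (fst X N ≫ r)⁻¹ = n' ≫ i) :
    AlgGrp.IsNormalHom i := by
  haveI : IsReduced (G ⊗ N).left := by
    haveI : Smooth (G ⊗ N).hom := by
      show Smooth (pullback.fst G.hom N.hom ≫ G.hom)
      infer_instance
    exact OrbitTop19.isReduced_of_smooth (G ⊗ N).hom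
  let c : G ⊗ N ⟶ G := fst G N * (snd G N ≫ i) * (fst G N)⁻¹
  haveI : Surjective (r ▷ N).left :=
    MorphismProperty.of_isPullback ((AbRigid.isPullback_whiskerRight r N).map (Over.forget _)) ‹Surjective r.left›
  obtain ⟨n', hn'⟩ := h
  have hc : (r ▷ N) ≫ c = n' ≫ i := by
    simp only [c, MonObj.comp_mul, GrpObj.comp_inv, whiskerRight_fst, whiskerRight_snd_assoc]
    exact hn'
  have hsub : Set.range c.left ⊆ Set.range i.left := by
    rintro _ ⟨z, rfl⟩
    obtain ⟨w, rfl⟩ := (r ▷ N).left.surjective z
    exact ⟨n'.left w, by rw [← Scheme.Hom.comp_apply, ← Scheme.Hom.comp_apply, ← Over.comp_left, ← Over.comp_left, hc]⟩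
  obtain ⟨l, hl⟩ := RedSepLib.exists_lift_of_range_subset c.left i.left hsub
  let l' : G ⊗ N ⟶ N := Over.homMk l (by rw [← Over.w i, reassoc_of% hl, Over.w c])
  have hl' : l' ≫ i = c := Over.OverMorphism.ext hl
  intro T t n
  refine ⟨lift t n ≫ l', ?_⟩
  rw [Category.assoc, hl']
  simp only [c, MonObj.comp_mul, GrpObj.comp_inv, lift_fst, lift_snd_assoc]

/-- A smooth connected group without nontrivial connected affine normal subgroups is proper. -/
theorem isProper_of_forall_trivial : ∀ (d : ℕ) (G : Over (Spec (CommRingCat.of k))) [GrpObj G] [Smooth G.hom]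
    [QuasiCompact G.hom] [ConnectedSpace G.left], topologicalKrullDim G.left ≤ (d : WithBot ℕ∞) →
    (∀ (N : Over (Spec (CommRingCat.of k))) [GrpObj N] (i : N ⟶ G) [IsMonHom i] [IsClosedImmersion i.left]
      [Smooth N.hom] [ConnectedSpace ↥N.left] [IsAffine N.left], AlgGrp.IsNormalHom i → IsIso N.hom ∧ True) →
    IsProper G.hom ∧ True := by
  intro d
  induction d using Nat.strong_induction_on with
  | _ d ih =>
  intro G _ _ _ _ hd htriv
  -- it suffices that `G` is not affine
  have hself : IsAffine G.left → IsProper G.hom ∧ True := fun _ => by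
    haveI : IsClosedImmersion (𝟙 G : G ⟶ G).left := by rw [Over.id_left]; infer_instance
    haveI := (htriv G (𝟙 G) fun T g n => ⟨g * n * g⁻¹, by simp⟩).1
    exact ⟨inferInstance, trivial⟩
  haveI : IsSeparated G.hom := AbRigid.isSeparated_of_grpObj G
  obtain ⟨Z, _, z, hzm, hzc, hziff⟩ := GrpTrans20.exists_centralizer (𝟙 G)
  haveI := hzm
  haveI := hzc
  haveI : Mono z := Over.mono_of_mono_left z
  have hZ : Red.IsCentre z := ⟨inferInstance, inferInstance, hziff⟩
  have hcentral : ∀ {T : Over (Spec (CommRingCat.of k))} (t : T ⟶ Z) (g : T ⟶ G), (t ≫ z) * g = g * (t ≫ z) :=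
    fun {T} t g => by
      have h := (hziff T (t ≫ z)).1 ⟨t, rfl⟩ T (𝟙 T) g
      simpa only [Category.id_comp, Category.comp_id] using h
  have hZn : AlgGrp.IsNormalHom z := fun T g f => ⟨f, by rw [← hcentral, mul_inv_cancel_right]⟩
  haveI : LocallyOfFiniteType Z.hom := by rw [← Over.w z]; infer_instance
  haveI : QuasiCompact Z.hom := by rw [← Over.w z]; infer_instance
  -- the connected reduced centre
  obtain ⟨R, _, r, hrm, hrc, hrs, hRred, hRs⟩ := BorelFix21.exists_reduced_subgroup Z
  haveI := hrm; haveI := hrc; haveI := hrs; haveI := hRs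
  haveI : QuasiCompact R.hom := by rw [← Over.w r]; infer_instance
  obtain ⟨A, _, a₀, ha₀m, ha₀o, ha₀c, hAs, hAq, hAn⟩ := Chevalley25.exists_neutral R
  haveI := ha₀m; haveI := ha₀o; haveI := ha₀c; haveI := hAs; haveI := hAq; haveI := hAn
  let a : A ⟶ G := a₀ ≫ r ≫ z
  haveI : IsMonHom a := inferInstanceAs (IsMonHom (a₀ ≫ r ≫ z))
  haveI : IsClosedImmersion a.left := inferInstanceAs (IsClosedImmersion (a₀.left ≫ r.left ≫ z.left))
  have hac : ∀ {T : Over (Spec (CommRingCat.of k))} (t : T ⟶ A) (g : T ⟶ G), (t ≫ a) * g = g * (t ≫ a) :=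
    fun {T} t g => by simpa only [a, Category.assoc] using hcentral (t ≫ a₀ ≫ r) g
  -- it is an abelian variety
  haveI : IsProper A.hom := by
    by_contra hA
    obtain ⟨B, _, b, hbm, hbc, hBs, hBa, hBd⟩ := Chevalley25.exists_affine_subgroup_of_not_isProper A hA
    haveI := hbm; haveI := hbc; haveI := hBs; haveI := hBa
    haveI : QuasiCompact B.hom := by rw [← Over.w b]; infer_instance
    obtain ⟨B₀, _, b₀, hb₀m, hb₀o, hb₀c, hB₀s, -, hB₀n⟩ := Chevalley25.exists_neutral B
    haveI := hb₀m; haveI := hb₀o; haveI := hb₀c; haveI := hB₀s; haveI := hB₀n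
    haveI : IsAffine B₀.left := isAffine_of_isAffineHom b₀.left
    let c : B₀ ⟶ G := b₀ ≫ b ≫ a
    haveI : IsMonHom c := inferInstanceAs (IsMonHom (b₀ ≫ b ≫ a))
    haveI : IsClosedImmersion c.left := inferInstanceAs (IsClosedImmersion (b₀.left ≫ b.left ≫ a.left))
    haveI := (htriv B₀ c fun T g f => ⟨f, by
      rw [show f ≫ c = (f ≫ b₀ ≫ b) ≫ a by simp only [c, Category.assoc], ← hac, mul_inv_cancel_right]⟩).1
    haveI := subsingleton_of_isIso_hom B₀
    haveI := discreteTopology_of_openSubgroup B b₀
    exact absurd hBd (not_lt.2 (topologicalKrullDim_zero_of_discreteTopology B.left))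
  -- the centre is not finite unless `G` is affine
  obtain ⟨Q, _, q, hqm, hqf, hqs, -, hker, hQs, hQq⟩ := exists_quotient z hZn
  haveI := hqm; haveI := hqf; haveI := hqs; haveI := hQs; haveI := hQq
  haveI : IsAffine Q.left := AffGrp19.isAffine_of_centre G Z z hZ Q q hker
  obtain ⟨H, _, h, hhm, hhc, hHs, hHn, hnorm, hsurj, hfin⟩ := TorsorNorm25.exists_quasiComplement a
  haveI := hhm; haveI := hhc; haveI := hHs; haveI := hHn; haveI := hsurj
  haveI : QuasiCompact H.hom := by rw [← Over.w h]; infer_instance
  obtain ⟨e, he⟩ := exists_dim H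
  obtain ⟨g₀, hg₀⟩ := exists_dim G
  by_cases hlt : e < d
  · -- induction
    haveI : IsProper H.hom := And.left <| ih e hlt H he.le fun N _ i _ _ _ _ _ hN => by
      haveI : IsClosedImmersion (i ≫ h).left := by rw [Over.comp_left]; infer_instance
      refine htriv N (i ≫ h) (isNormalHom_of_cover (i ≫ h) ((a ⊗ₘ h) ≫ μ[G]) ?_)
      obtain ⟨n', hn'⟩ := hN _ (fst (A ⊗ H) N ≫ snd A H) (snd (A ⊗ H) N)
      refine ⟨n', ?_⟩
      rw [show (a ⊗ₘ h) ≫ μ[G] = (fst A H ≫ a) * (snd A H ≫ h) by
          rw [Hom.mul_def, lift_fst_comp_snd_comp], MonObj.comp_mul, ← Category.assoc, ← Category.assoc]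
      simp only [← Category.assoc n', ← hn', MonObj.mul_comp, GrpObj.inv_comp, Category.assoc]
      rw [mul_inv_rev, ← Category.assoc (fst (A ⊗ H) N) (fst A H) a, _root_.mul_assoc (_ ≫ a), _root_.mul_assoc (_ ≫ a),
        ← _root_.mul_assoc (_ * _) (_ ≫ _)⁻¹, hac _ _, inv_mul_cancel_right]
    haveI : IsProper ((a ⊗ₘ h) ≫ μ[G]).left := by
      haveI : IsProper (((a ⊗ₘ h) ≫ μ[G]).left ≫ G.hom) := by
        rw [Over.w]
        show IsProper (pullback.fst A.hom H.hom ≫ A.hom)
        infer_instance
      exact IsProper.of_comp _ G.hom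
    haveI : UniversallyClosed G.hom := by
      haveI : UniversallyClosed (((a ⊗ₘ h) ≫ μ[G]).left ≫ G.hom) := by
        rw [Over.w]
        show UniversallyClosed (pullback.fst A.hom H.hom ≫ A.hom)
        infer_instance
      exact UniversallyClosed.of_comp_surjective ((a ⊗ₘ h) ≫ μ[G]).left G.hom
    haveI : IsProper G.hom := { }
    exact ⟨inferInstance, trivial⟩
  · -- the abelian variety is finite
    haveI : IsIso h := isIso_of_dim_le h (hd.trans (by rw [he]; exact_mod_cast not_lt.1 hlt))
    haveI : IsIso h.left := inferInstanceAs (IsIso ((Over.forget _).map h))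
    haveI := hfin
    haveI : IsFinite A.hom := by
      have : A.hom = inv (pullback.fst a.left h.left) ≫ pullback.fst a.left h.left ≫ A.hom := by simp
      rw [this]
      infer_instance
    haveI := subsingleton_of_isFinite A
    haveI := discreteTopology_of_openSubgroup R a₀
    haveI : DiscreteTopology Z.left :=
      (IsHomeomorph.homeomorph r.left (isHomeomorph_iff_isEmbedding_surjective.2
        ⟨r.left.isClosedEmbedding.isEmbedding, r.left.surjective⟩)).discreteTopology
    haveI : CompactSpace Z.left := (quasiCompact_iff_compactSpace Z.hom).1 inferInstance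
    haveI : Finite Z.left := finite_of_compact_of_discrete
    haveI : IsAffine Z.left := inferInstance
    exact hself (isAffine_of_extension z q hker)

/-- **Chevalley's theorem**: the quotient by the largest connected affine normal subgroup is an abelian variety. -/
theorem exists_chevalley (G : Over (Spec (CommRingCat.of k))) [GrpObj G] [Smooth G.hom] [QuasiCompact G.hom]
    [ConnectedSpace G.left] (N : Over (Spec (CommRingCat.of k))) [GrpObj N] (i : N ⟶ G) [IsMonHom i]
    [IsClosedImmersion i.left] [Smooth N.hom] [ConnectedSpace N.left] [IsAffine N.left] (hN : AlgGrp.IsNormalHom i)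
    (hmax : ∀ (N' : Over (Spec (CommRingCat.of k))) [GrpObj N'] (i' : N' ⟶ G) [IsMonHom i'] [IsClosedImmersion i'.left]
      [Smooth N'.hom] [ConnectedSpace ↥N'.left] [IsAffine N'.left], AlgGrp.IsNormalHom i' → ∃ f : N' ⟶ N, f ≫ i = i') :
    ∃ (A : Over (Spec (CommRingCat.of k))) (_ : GrpObj A) (q : G ⟶ A), IsMonHom q ∧ Flat q.left ∧ Surjective q.left ∧
      QuasiCompact q.left ∧ AlgGrp.IsKernel i q ∧ IsProper A.hom ∧ Smooth A.hom ∧ ConnectedSpace A.left := by
  obtain ⟨A, _, q, hqm, hqf, hqs, hqq, hker, hAs, hAq⟩ := exists_quotient i hN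
  haveI := hqm; haveI := hqf; haveI := hqs; haveI := hAs; haveI := hAq
  haveI : ConnectedSpace A.left := q.left.surjective.connectedSpace q.left.continuous
  obtain ⟨d, hd⟩ := exists_dim A
  exact ⟨A, inferInstance, q, hqm, hqf, hqs, hqq, hker,
    (isProper_of_forall_trivial d A hd.le fun M _ j _ _ _ _ _ hj => ⟨isIso_hom_of_quotient i hmax q hker j hj, trivial⟩).1,
    inferInstance, inferInstance⟩

end Groth.Agent.AffPart25
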